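/-
Area SympAmalgam: the inductive step. `π : K →* SpB B` is injective on a few subgroups `A ⊔ M`, `M ⊔ S`, `K'`, whose
images are the `SL₂` of the hyperbolic pair `e, f`, a part of the unipotent radical, and the isometry group of the
orthogonal of `e, f`; then `π` is injective on `A ⊔ M ⊔ K'`, whose image is the whole isometry group.
`W` is the non-degenerate space the group lives on, `C` spans its orthogonal.
-/
import Cfsg.Agent.Lib.SympAmalgam.Siegel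

set_option autoImplicit false

namespace Cfsg.Agent.SympAmalgam

open Cfsg.Agent.ClassicalSimple

variable {F : Type*} [Field F] {V : Type*} [AddCommGroup V] [Module F V] {B : LinearMap.BilinForm F V}
  {K : Type*} [Group K]

/-- The isometries fixing every element of a set. -/
def fixing (B : LinearMap.BilinForm F V) (C : Set V) : Subgroup (SpB B) where
  carrier := {g | ∀ c ∈ C, g • c = c}
  one_mem' c _ := one_smul _ c
  mul_mem' ha hb c hc := by rw [mul_smul, hb c hc, ha c hc]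
  inv_mem' := @fun g ha c hc => by
    conv_lhs => rw [← ha c hc]
    exact inv_smul_smul g c

theorem mem_fixing {C : Set V} {g : SpB B} : g ∈ fixing B C ↔ ∀ c ∈ C, g • c = c := Iff.rfl

/-- The data of the inductive step. -/
structure Data (B : LinearMap.BilinForm F V) (π : K →* SpB B) where
  hA : B.IsAlt
  e : V
  f : V
  e' : V
  f' : V
  C : Set V
  W : Submodule F V
  W' : Submodule F V
  A : Subgroup K
  M : Subgroup K
  K' : Subgroup K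
  S : Subgroup K
  hW : ∀ v, v ∈ W ↔ ∀ c ∈ C, B v c = 0
  hW' : ∀ v, v ∈ W' ↔ v ∈ W ∧ B e v = 0 ∧ B f v = 0
  he : e ∈ W
  hf : f ∈ W
  hfe : B f e = 1
  he' : e' ∈ W'
  hf' : f' ∈ W'
  hfe' : B f' e' = 1
  nd : ∀ v ∈ W, v ≠ 0 → ∃ x ∈ W, B v x ≠ 0
  span : ∀ g : SpB B, (∀ c ∈ C, g • c = c) → (∀ v ∈ W, g • v = v) → g = 1
  injAM : Set.InjOn π (A ⊔ M : Subgroup K)
  injK : Set.InjOn π K'
  injMS : Set.InjOn π (M ⊔ S : Subgroup K)
  comm : ∀ a ∈ A, ∀ k ∈ K', Commute a k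
  imA : A.map π = fixing B (C ∪ (W' : Set V))
  imK : K'.map π = fixing B (C ∪ {e, f})
  S_le : S ≤ K'
  imS : fixing B (C ∪ {e, f} ∪ {y | y ∈ W' ∧ B e' y = 0 ∧ B f' y = 0}) ≤ S.map π
  M_sub : ∀ m ∈ M, ∃ (c t d : F), π m = sg hA e (c • e') t * sg hA e' 0 d
  M_sup : ∀ c t d : F, sg hA e (c • e') t * sg hA e' 0 d ∈ M.map π
  stab : ∀ k ∈ K', π k • e' = e' → ∀ m ∈ M, Commute k m
  scal : (∃ a : F, a ≠ 0 ∧ a ≠ 1) ∨ ∀ b ∈ W', B e' b = 0 → (∀ c : F, b ≠ c • e') → ∀ k1 ∈ K', ∀ k2 ∈ K',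
    π k1 • e' = b → π k2 • e' = e' + b → ∀ m ∈ M, π m = sg hA e e' 0 → m * (k1 * m * k1⁻¹) = k2 * m * k2⁻¹

namespace Data

variable {π : K →* SpB B} (D : Data B π)

theorem eqAM {x y : K} (hx : x ∈ D.A ⊔ D.M) (hy : y ∈ D.A ⊔ D.M) (h : π x = π y) : x = y := D.injAM hx hy h

theorem eqMS {x y : K} (hx : x ∈ D.M ⊔ D.S) (hy : y ∈ D.M ⊔ D.S) (h : π x = π y) : x = y := D.injMS hx hy h

theorem eqK {x y : K} (hx : x ∈ D.K') (hy : y ∈ D.K') (h : π x = π y) : x = y := D.injK hx hy h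

theorem W'_le {y : V} (hy : y ∈ D.W') : y ∈ D.W := ((D.hW' y).1 hy).1
theorem B_e {y : V} (hy : y ∈ D.W') : B D.e y = 0 := ((D.hW' y).1 hy).2.1
theorem B_f {y : V} (hy : y ∈ D.W') : B D.f y = 0 := ((D.hW' y).1 hy).2.2
theorem B_e_swap {y : V} (hy : y ∈ D.W') : B y D.e = 0 := by rw [swap_eq D.hA, D.B_e hy, neg_zero]
theorem B_f_swap {y : V} (hy : y ∈ D.W') : B y D.f = 0 := by rw [swap_eq D.hA, D.B_f hy, neg_zero]
theorem B_ef : B D.e D.f = -1 := by rw [swap_eq D.hA, D.hfe]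
theorem e'_ne : D.e' ≠ 0 := fun h => by simpa [h] using D.hfe'

theorem B_C {v c : V} (hv : v ∈ D.W) (hc : c ∈ D.C) : B v c = 0 := (D.hW v).1 hv c hc

/-- The projection to the hyperbolic plane. -/
def pl (v : V) : V := B D.f v • D.e - B D.e v • D.f

theorem pl_mem (v : V) : D.pl v ∈ D.W := D.W.sub_mem (D.W.smul_mem _ D.he) (D.W.smul_mem _ D.hf)

theorem sub_pl_mem {v : V} (hv : v ∈ D.W) : v - D.pl v ∈ D.W' := by
  refine (D.hW' _).2 ⟨D.W.sub_mem hv (D.pl_mem v), ?_, ?_⟩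
  · simp [pl, D.hA D.e, D.B_ef]
  · simp [pl, D.hA D.f, D.hfe]

theorem nd' {y : V} (hy : y ∈ D.W') (h : y ≠ 0) : ∃ x ∈ D.W', B y x ≠ 0 := by
  obtain ⟨x, hx, hyx⟩ := D.nd y (D.W'_le hy) h
  refine ⟨x - D.pl x, D.sub_pl_mem hx, ?_⟩
  simpa [pl, D.B_e_swap hy, D.B_f_swap hy] using hyx

/-- Vectors of the plane `⟨e, f⟩`. -/
def InP (u : V) : Prop := u ∈ D.W ∧ ∀ y ∈ D.W', B u y = 0

theorem inP_e : D.InP D.e := ⟨D.he, fun _ hy => D.B_e hy⟩
theorem inP_f : D.InP D.f := ⟨D.hf, fun _ hy => D.B_f hy⟩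
theorem inP_zero : D.InP 0 := ⟨D.W.zero_mem, fun _ _ => by simp⟩

theorem inP_add {u u' : V} (h : D.InP u) (h' : D.InP u') : D.InP (u + u') :=
  ⟨D.W.add_mem h.1 h'.1, fun y hy => by simp [h.2 y hy, h'.2 y hy]⟩

theorem inP_smul {u : V} (h : D.InP u) (c : F) : D.InP (c • u) :=
  ⟨D.W.smul_mem c h.1, fun y hy => by simp [h.2 y hy]⟩

theorem inP_sub {u u' : V} (h : D.InP u) (h' : D.InP u') : D.InP (u - u') :=
  ⟨D.W.sub_mem h.1 h'.1, fun y hy => by simp [h.2 y hy, h'.2 y hy]⟩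

theorem inP_pl (v : V) : D.InP (D.pl v) := D.inP_sub (D.inP_smul D.inP_e _) (D.inP_smul D.inP_f _)

theorem pl_eq_self {u : V} (hu : D.InP u) : D.pl u = u := by
  have hy := D.sub_pl_mem hu.1
  by_contra h
  obtain ⟨x, hx, hne⟩ := D.nd' hy (sub_ne_zero.2 (Ne.symm h))
  exact hne (by simp [hu.2 x hx, (D.inP_pl u).2 x hx])

theorem pl_add {u y : V} (hu : D.InP u) (hy : y ∈ D.W') : D.pl (u + y) = u := by
  conv_rhs => rw [← D.pl_eq_self hu]
  simp [pl, D.B_e hy, D.B_f hy]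

theorem InP.swap {u y : V} (hu : D.InP u) (hy : y ∈ D.W') : B y u = 0 := by
  rw [swap_eq D.hA, hu.2 y hy, neg_zero]

/-- An isometry fixing `C` preserves `W`. -/
theorem smul_W {g : SpB B} (hg : ∀ c ∈ D.C, g • c = c) {v : V} (hv : v ∈ D.W) : g • v ∈ D.W :=
  (D.hW _).2 fun c hc => by rw [← hg c hc, form_smul]; exact D.B_C hv hc

theorem ext_fix {g g' : SpB B} (hg : ∀ c ∈ D.C, g • c = c) (hg' : ∀ c ∈ D.C, g' • c = c)
    (he : g • D.e = g' • D.e) (hf : g • D.f = g' • D.f) (hw : ∀ y ∈ D.W', g • y = g' • y) : g = g' := by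
  have h := D.span (g'⁻¹ * g) (fun c hc => by rw [mul_smul, hg c hc, inv_smul_eq_iff, hg' c hc]) fun v hv => by
    rw [mul_smul, inv_smul_eq_iff]
    have hv' : v = D.pl v + (v - D.pl v) := by abel
    rw [hv', pl]
    simp only [smul_eq_apply, map_add, map_sub, map_smul] at *
    rw [he, hf]
    have := hw _ (D.sub_pl_mem hv)
    simp only [pl, map_add, map_sub, map_smul, he, hf] at this
    rw [this]
  exact (inv_mul_eq_one.1 h).symm

theorem piA {a : K} (ha : a ∈ D.A) : π a ∈ fixing B (D.C ∪ (D.W' : Set V)) := D.imA ▸ ⟨a, ha, rfl⟩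
theorem piK {k : K} (hk : k ∈ D.K') : π k ∈ fixing B (D.C ∪ {D.e, D.f}) := D.imK ▸ ⟨k, hk, rfl⟩
theorem piA_C {a : K} (ha : a ∈ D.A) : ∀ c ∈ D.C, π a • c = c := fun c hc => D.piA ha c (Or.inl hc)
theorem piA_W' {a : K} (ha : a ∈ D.A) {y : V} (hy : y ∈ D.W') : π a • y = y := D.piA ha y (Or.inr hy)
theorem piK_C {k : K} (hk : k ∈ D.K') : ∀ c ∈ D.C, π k • c = c := fun c hc => D.piK hk c (Or.inl hc)
theorem piK_e {k : K} (hk : k ∈ D.K') : π k • D.e = D.e := D.piK hk _ (Or.inr (Or.inl rfl))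
theorem piK_f {k : K} (hk : k ∈ D.K') : π k • D.f = D.f := D.piK hk _ (Or.inr (Or.inr rfl))

theorem piA_inP {a : K} (ha : a ∈ D.A) {u : V} (hu : D.InP u) : D.InP (π a • u) :=
  ⟨D.smul_W (D.piA_C ha) hu.1, fun y hy => by rw [← D.piA_W' ha hy, form_smul]; exact hu.2 y hy⟩

theorem piK_W' {k : K} (hk : k ∈ D.K') {y : V} (hy : y ∈ D.W') : π k • y ∈ D.W' :=
  (D.hW' _).2 ⟨D.smul_W (D.piK_C hk) (D.W'_le hy), by rw [← D.piK_e hk, form_smul]; exact D.B_e hy,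
    by rw [← D.piK_f hk, form_smul]; exact D.B_f hy⟩

theorem piK_inP {k : K} (hk : k ∈ D.K') {u : V} (hu : D.InP u) : π k • u = u := by
  rw [← D.pl_eq_self hu, pl]
  have h1 := D.piK_e hk
  have h2 := D.piK_f hk
  simp only [smul_eq_apply, map_sub, map_smul] at *
  rw [h1, h2]

theorem sg_mem_A {u : V} (hu : D.InP u) (t : F) :
    sg D.hA u 0 t ∈ fixing B (D.C ∪ (D.W' : Set V)) := by
  rintro c (hc | hc)
  · exact sg_fix D.hA (D.B_C hu.1 hc) (by simp) t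
  · exact sg_fix D.hA (hu.2 c hc) (by simp) t

theorem sg_mem_K {y : V} (hy : y ∈ D.W') (t : F) : sg D.hA y 0 t ∈ fixing B (D.C ∪ {D.e, D.f}) := by
  rintro c (hc | rfl | rfl)
  · exact sg_fix D.hA (D.B_C (D.W'_le hy) hc) (by simp) t
  · exact sg_fix D.hA (D.B_e_swap hy) (by simp) t
  · exact sg_fix D.hA (D.B_f_swap hy) (by simp) t

/-- The plane `⟨e', f'⟩`, as the elements of `W'` orthogonal to its orthogonal. -/
def InQ (y : V) : Prop := y ∈ D.W' ∧ ∀ r ∈ D.W', B D.e' r = 0 → B D.f' r = 0 → B y r = 0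

/-- The plane `⟨e, f⟩` as a submodule. -/
def P : Submodule F V where
  carrier := {u | D.InP u}
  zero_mem' := D.inP_zero
  add_mem' h h' := D.inP_add h h'
  smul_mem' c _ h := D.inP_smul h c

/-- The plane `⟨e', f'⟩` as a submodule. -/
def Q : Submodule F V where
  carrier := {y | D.InQ y}
  zero_mem' := ⟨D.W'.zero_mem, fun r _ _ _ => by simp⟩
  add_mem' h h' := ⟨D.W'.add_mem h.1 h'.1, fun r hr a b => by simp [h.2 r hr a b, h'.2 r hr a b]⟩
  smul_mem' c _ h := ⟨D.W'.smul_mem c h.1, fun r hr a b => by simp [h.2 r hr a b]⟩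

theorem inQ_e' : D.InQ D.e' := ⟨D.he', fun _ _ a _ => a⟩
theorem inQ_f' : D.InQ D.f' := ⟨D.hf', fun _ _ _ b => b⟩

theorem exists_A {u v : V} (hu : D.InP u) (hu0 : u ≠ 0) (hv : D.InP v) (hv0 : v ≠ 0) :
    ∃ a ∈ D.A, π a • u = v := by
  have hP : ∀ x ∈ D.P, x ≠ 0 → ∃ z ∈ D.P, B x z ≠ 0 := fun x hx h0 => by
    obtain ⟨z, hz, hne⟩ := D.nd x hx.1 h0
    refine ⟨D.pl z, D.inP_pl z, ?_⟩
    have := hx.2 _ (D.sub_pl_mem hz)
    rw [map_sub, sub_eq_zero] at this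
    rwa [← this]
  obtain ⟨g, hg, hgf⟩ := exists_move D.hA D.P hP hu hu0 hv hv0
  have : g ∈ D.A.map π := by
    rw [D.imA]
    rintro c (hc | hc)
    · exact hgf c fun d hd => D.B_C hd.1 hc
    · exact hgf c fun d hd => hd.2 c hc
  obtain ⟨a, ha, rfl⟩ := this
  exact ⟨a, ha, hg⟩

theorem exists_S {u v : V} (hu : D.InQ u) (hu0 : u ≠ 0) (hv : D.InQ v) (hv0 : v ≠ 0) :
    ∃ s ∈ D.S, π s • u = v := by
  have hQ : ∀ x ∈ D.Q, x ≠ 0 → ∃ z ∈ D.Q, B x z ≠ 0 := fun x hx h0 => by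
    by_cases h1 : B x D.e' = 0
    · by_cases h2 : B x D.f' = 0
      · obtain ⟨z, hz, hne⟩ := D.nd' hx.1 h0
        refine absurd ?_ hne
        have hr := hx.2 (z - B D.f' z • D.e' + B D.e' z • D.f')
          (D.W'.add_mem (D.W'.sub_mem hz (D.W'.smul_mem _ D.he')) (D.W'.smul_mem _ D.hf'))
          (by simp [D.hA D.e', swap_eq D.hA D.f' D.e', D.hfe']) (by simp [D.hA D.f', D.hfe'])
        simpa [h1, h2] using hr
      · exact ⟨D.f', D.inQ_f', h2⟩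
    · exact ⟨D.e', D.inQ_e', h1⟩
  obtain ⟨g, hg, hgf⟩ := exists_move D.hA D.Q hQ hu hu0 hv hv0
  have : g ∈ D.S.map π := by
    refine D.imS ?_
    rintro c ((hc | rfl | rfl) | hc)
    · exact hgf c fun d hd => D.B_C (D.W'_le hd.1) hc
    · exact hgf _ fun d hd => D.B_e_swap hd.1
    · exact hgf _ fun d hd => D.B_f_swap hd.1
    · exact hgf c fun d hd => hd.2 c hc.1 hc.2.1 hc.2.2
  obtain ⟨s, hs, rfl⟩ := this
  exact ⟨s, hs, hg⟩

theorem exists_K {u v : V} (hu : u ∈ D.W') (hu0 : u ≠ 0) (hv : v ∈ D.W') (hv0 : v ≠ 0) :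
    ∃ k ∈ D.K', π k • u = v := by
  obtain ⟨g, hg, hgf⟩ := exists_move D.hA D.W' (fun x hx h0 => D.nd' hx h0) hu hu0 hv hv0
  have : g ∈ D.K'.map π := by
    rw [D.imK]
    rintro c (hc | rfl | rfl)
    · exact hgf c fun d hd => D.B_C (D.W'_le hd) hc
    · exact hgf _ fun d hd => D.B_e_swap hd
    · exact hgf _ fun d hd => D.B_f_swap hd
  obtain ⟨k, hk, rfl⟩ := this
  exact ⟨k, hk, hg⟩

end Data

end Cfsg.Agent.SympAmalgam
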