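/-
Area SympAmalgam: the lift `ρ` of the unipotent radical of the stabiliser of `e`, and the lifts `R u` of its
conjugates under the `SL₂` of the plane.
-/
import Cfsg.Agent.Lib.SympAmalgam.Step

set_option autoImplicit false

namespace Cfsg.Agent.SympAmalgam

open Cfsg.Agent.ClassicalSimple

variable {F : Type*} [Field F] {V : Type*} [AddCommGroup V] [Module F V] {B : LinearMap.BilinForm F V}
  {K : Type*} [Group K]

namespace Data

variable {π : K →* SpB B} (D : Data B π)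

theorem B_ee' : B D.e D.e' = 0 := D.B_e D.he'

theorem conj_pi (g x : K) : π (g * x * g⁻¹) = π g * π x * (π g)⁻¹ := by rw [map_mul, map_mul, map_inv]

theorem sg_e_mem (c t : F) : sg D.hA D.e (c • D.e') t ∈ D.M.map π := by
  simpa [sg_zero] using D.M_sup c t 0

theorem exists_M (c t : F) : ∃ m ∈ D.M, π m = sg D.hA D.e (c • D.e') t := by
  obtain ⟨m, hm, h⟩ := D.sg_e_mem c t
  exact ⟨m, hm, h⟩

/-- The lift of the root element of `e, e'`. -/
noncomputable def m1 : K := Classical.choose (D.exists_M 1 0)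

theorem m1_mem : D.m1 ∈ D.M := (Classical.choose_spec (D.exists_M 1 0)).1
theorem pi_m1 : π D.m1 = sg D.hA D.e D.e' 0 :=
  (Classical.choose_spec (D.exists_M 1 0)).2.trans (by rw [one_smul])

/-- The lift of the long root elements of `e`. -/
noncomputable def z (t : F) : K := Classical.choose (D.exists_M 0 t)

theorem z_mem_M (t : F) : D.z t ∈ D.M := (Classical.choose_spec (D.exists_M 0 t)).1
theorem pi_z (t : F) : π (D.z t) = sg D.hA D.e 0 t :=
  (Classical.choose_spec (D.exists_M 0 t)).2.trans (by rw [zero_smul])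

theorem z_mem_A (t : F) : D.z t ∈ D.A := by
  have : π (D.z t) ∈ D.A.map π := by rw [D.imA, D.pi_z]; exact D.sg_mem_A D.inP_e t
  obtain ⟨a, ha, h⟩ := this
  rwa [← D.eqAM (Subgroup.mem_sup_left ha) (Subgroup.mem_sup_right (D.z_mem_M t)) h]

theorem z_commute_K {k : K} (hk : k ∈ D.K') (t : F) : Commute (D.z t) k := D.comm _ (D.z_mem_A t) k hk

theorem M_commute {m m' : K} (hm : m ∈ D.M) (hm' : m' ∈ D.M) : Commute m m' := by
  refine D.eqAM (mul_mem (Subgroup.mem_sup_right hm) (Subgroup.mem_sup_right hm'))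
    (mul_mem (Subgroup.mem_sup_right hm') (Subgroup.mem_sup_right hm)) ?_
  obtain ⟨c, t, d, h⟩ := D.M_sub m hm
  obtain ⟨c', t', d', h'⟩ := D.M_sub m' hm'
  have hB : B D.e' D.e = 0 := D.B_e_swap D.he'
  refine SpB.ext' fun x => ?_
  simp only [map_mul, h, h', mul_smul, sg_smul D.hA (by simp [D.B_ee'] : B D.e (c • D.e') = 0),
    sg_smul D.hA (by simp [D.B_ee'] : B D.e (c' • D.e') = 0), sg_smul D.hA (by simp : B D.e' 0 = 0)]
  simp only [map_add, map_smul, LinearMap.smul_apply, smul_eq_mul, D.hA D.e, D.hA D.e', D.B_ee', hB, mul_zero,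
    add_zero, map_zero, LinearMap.zero_apply, zero_smul, smul_zero]
  module

theorem exists_rho (y : V) : ∃ x : K, (y ∈ D.W' → y ≠ 0 → ∃ k ∈ D.K', π k • D.e' = y ∧ x = k * D.m1 * k⁻¹) ∧
    (¬(y ∈ D.W' ∧ y ≠ 0) → x = 1) := by
  by_cases h : y ∈ D.W' ∧ y ≠ 0
  · obtain ⟨k, hk, hky⟩ := D.exists_K D.he' D.e'_ne h.1 h.2
    exact ⟨_, fun _ _ => ⟨k, hk, hky, rfl⟩, fun h' => absurd h h'⟩
  · exact ⟨1, fun a b => absurd ⟨a, b⟩ h, fun _ => rfl⟩

/-- The lift of the unipotent radical of the stabiliser of `e`. -/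
noncomputable def ρ (y : V) : K := Classical.choose (D.exists_rho y)

theorem rho_zero : D.ρ 0 = 1 := (Classical.choose_spec (D.exists_rho 0)).2 fun h => h.2 rfl

theorem rho_eq {k : K} (hk : k ∈ D.K') {y : V} (hky : π k • D.e' = y) : D.ρ y = k * D.m1 * k⁻¹ := by
  have hy : y ∈ D.W' := hky ▸ D.piK_W' hk D.he'
  have hy0 : y ≠ 0 := by rw [← hky, Ne, smul_eq_zero_iff_eq]; exact D.e'_ne
  obtain ⟨k', hk', hky', h⟩ := (Classical.choose_spec (D.exists_rho y)).1 hy hy0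
  rw [ρ, h]
  have hc := D.stab (k⁻¹ * k') (mul_mem (inv_mem hk) hk')
    (by rw [map_mul, map_inv, mul_smul, hky', ← hky, inv_smul_smul]) D.m1 D.m1_mem
  calc k' * D.m1 * k'⁻¹ = k * ((k⁻¹ * k') * D.m1) * k'⁻¹ := by group
    _ = k * (D.m1 * (k⁻¹ * k')) * k'⁻¹ := by rw [hc.eq]
    _ = k * D.m1 * k⁻¹ := by group

theorem pi_rho {y : V} (hy : y ∈ D.W') : π (D.ρ y) = sg D.hA D.e y 0 := by
  by_cases h : y = 0
  · rw [h, D.rho_zero, map_one, sg_zero]
  obtain ⟨k, hk, hky⟩ := D.exists_K D.he' D.e'_ne hy h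
  rw [D.rho_eq hk hky, conj_pi, D.pi_m1, sg_conj _ _ D.B_ee', D.piK_e hk, hky]

theorem rho_conj {k : K} (hk : k ∈ D.K') {y : V} (hy : y ∈ D.W') : k * D.ρ y * k⁻¹ = D.ρ (π k • y) := by
  by_cases h : y = 0
  · rw [h, D.rho_zero, smul_zero, D.rho_zero]; group
  obtain ⟨k', hk', hky⟩ := D.exists_K D.he' D.e'_ne hy h
  rw [D.rho_eq hk' hky, D.rho_eq (mul_mem hk hk') (by rw [map_mul, mul_smul, hky] : π (k * k') • D.e' = π k • y)]
  group

theorem z_commute_rho (t : F) (y : V) (hy : y ∈ D.W') : Commute (D.z t) (D.ρ y) := by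
  by_cases h : y = 0
  · rw [h, D.rho_zero]; exact Commute.one_right _
  obtain ⟨k, hk, hky⟩ := D.exists_K D.he' D.e'_ne hy h
  rw [D.rho_eq hk hky]
  exact ((D.z_commute_K hk t).mul_right (D.M_commute (D.z_mem_M t) D.m1_mem)).mul_right
    (D.z_commute_K hk t).inv_right

theorem rho_mem_MS {y : V} (hy : D.InQ y) : D.ρ y ∈ D.M ⊔ D.S := by
  by_cases h : y = 0
  · rw [h, D.rho_zero]; exact one_mem _
  obtain ⟨s, hs, hsy⟩ := D.exists_S D.inQ_e' D.e'_ne hy h
  rw [D.rho_eq (D.S_le hs) hsy]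
  exact mul_mem (mul_mem (Subgroup.mem_sup_right hs) (Subgroup.mem_sup_left D.m1_mem))
    (inv_mem (Subgroup.mem_sup_right hs))

theorem inQ_smul_e' (c : F) : D.InQ (c • D.e') :=
  ⟨D.W'.smul_mem c D.he', fun r hr a b => by simp [a]⟩

theorem rho_smul_mem_M (c : F) : D.ρ (c • D.e') ∈ D.M := by
  obtain ⟨m, hm, h⟩ := D.exists_M c 0
  rwa [← D.eqMS (Subgroup.mem_sup_left hm) (D.rho_mem_MS (D.inQ_smul_e' c))
    (by rw [h, D.pi_rho (D.W'.smul_mem c D.he')])]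

/-- `(a, b)` is good when the lifts multiply as the root elements do. -/
def Good (a b : V) : Prop := D.ρ a * D.ρ b = D.ρ (a + b) * D.z (B a b)

theorem pi_good {a b : V} (ha : a ∈ D.W') (hb : b ∈ D.W') :
    π (D.ρ a * D.ρ b) = π (D.ρ (a + b) * D.z (B a b)) := by
  rw [map_mul, map_mul, D.pi_rho ha, D.pi_rho hb, D.pi_rho (D.W'.add_mem ha hb), D.pi_z,
    sg_add D.hA (D.B_e ha) (D.B_e hb), sg_add D.hA (D.B_e (D.W'.add_mem ha hb)) (by simp : B D.e 0 = 0)]
  simp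

theorem good_of_inQ {a b : V} (ha : D.InQ a) (hb : D.InQ b) : D.Good a b :=
  D.eqMS (mul_mem (D.rho_mem_MS ha) (D.rho_mem_MS hb))
    (mul_mem (D.rho_mem_MS ⟨D.W'.add_mem ha.1 hb.1, fun r hr x y => by simp [ha.2 r hr x y, hb.2 r hr x y]⟩)
      (Subgroup.mem_sup_left (D.z_mem_M _))) (D.pi_good ha.1 hb.1)

theorem good_conj {a b : V} (ha : a ∈ D.W') (hb : b ∈ D.W') {k : K} (hk : k ∈ D.K')
    (h : D.Good (π k • a) (π k • b)) : D.Good a b := by
  rw [Good, form_smul, ← D.rho_conj hk ha, ← D.rho_conj hk hb,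
    show π k • a + π k • b = π k • (a + b) by simp [smul_eq_apply], ← D.rho_conj hk (D.W'.add_mem ha hb)] at h
  have hz := D.z_commute_K hk (B a b)
  have h' : k * (D.ρ a * D.ρ b) * k⁻¹ = k * (D.ρ (a + b) * D.z (B a b)) * k⁻¹ := by
    calc k * (D.ρ a * D.ρ b) * k⁻¹ = k * D.ρ a * k⁻¹ * (k * D.ρ b * k⁻¹) := by group
      _ = k * D.ρ (a + b) * k⁻¹ * D.z (B a b) := h
      _ = k * (D.ρ (a + b) * D.z (B a b)) * k⁻¹ := by
        rw [mul_assoc (k * D.ρ (a + b)), ← (hz.inv_right).eq]; group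
  exact mul_left_cancel (mul_right_cancel h')

theorem good_hyp {a b : V} (ha : a ∈ D.W') (hb : b ∈ D.W') (hab : B a b ≠ 0) : D.Good a b := by
  have ha0 : a ≠ 0 := fun h => hab (by simp [h])
  obtain ⟨k, hk, hka⟩ := D.exists_K ha ha0 D.he' D.e'_ne
  refine D.good_conj ha hb hk ?_
  rw [hka]
  have hb2 : π k • b ∈ D.W' := D.piK_W' hk hb
  have hβ : B D.e' (π k • b) ≠ 0 := by rwa [← hka, form_smul]
  generalize π k • b = b' at hb2 hβ
  -- move `b'` into the plane by an isometry fixing `e'`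
  set β := B D.e' b' with hβdef
  set r := b' - B D.f' b' • D.e' + β • D.f' with hr
  have hrW : r ∈ D.W' := D.W'.add_mem (D.W'.sub_mem hb2 (D.W'.smul_mem _ D.he')) (D.W'.smul_mem _ D.hf')
  have hef : B D.e' D.f' = -1 := by rw [swap_eq D.hA, D.hfe']
  have her : B D.e' r = 0 := by simp [hr, D.hA D.e', hef, ← hβdef]
  have hfr : B D.f' r = 0 := by simp [hr, D.hA D.f', D.hfe']
  set r' := (-β⁻¹) • r with hr'
  have h1 : B D.e' r' = 0 := by simp [hr', her]
  have hr'W : r' ∈ D.W' := D.W'.smul_mem _ hrW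
  have : sg D.hA D.e' r' 0 ∈ D.K'.map π := by
    rw [D.imK]
    rintro c (hc | rfl | rfl)
    · exact sg_fix D.hA (D.B_C (D.W'_le D.he') hc) (D.B_C (D.W'_le hr'W) hc) 0
    · exact sg_fix D.hA (D.B_e_swap D.he') (D.B_e_swap hr'W) 0
    · exact sg_fix D.hA (D.B_f_swap D.he') (D.B_f_swap hr'W) 0
  obtain ⟨k', hk', hk'g⟩ := this
  refine D.good_conj D.he' hb2 hk' ?_
  rw [hk'g]
  have he2 : sg D.hA D.e' r' 0 • D.e' = D.e' := by
    refine sg_fix D.hA (D.hA _) ?_ 0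
    rw [swap_eq D.hA, h1, neg_zero]
  rw [he2]
  refine D.good_of_inQ D.inQ_e' ⟨?_, fun s hs x y => ?_⟩
  · rw [← hk'g]; exact D.piK_W' hk' hb2
  rw [sg_smul D.hA h1, ← hβdef]
  have hbs : B b' s = B r s := by simp [hr, x, y]
  simp only [map_add, map_smul, LinearMap.add_apply, LinearMap.smul_apply, smul_eq_mul, x, hbs, hr', mul_zero,
    add_zero]
  field_simp
  ring

theorem good_zero_left {b : V} (hb : b ∈ D.W') : D.Good 0 b := by
  have hz : D.z 0 = 1 :=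
    D.eqAM (Subgroup.mem_sup_right (D.z_mem_M 0)) (one_mem _) (by rw [D.pi_z, sg_zero, map_one])
  simp [Good, D.rho_zero, hz]

theorem exists_dual {a b : V} (ha : a ∈ D.W') (hb : b ∈ D.W') (hind : ∀ c : F, b ≠ c • a) (ha0 : a ≠ 0)
    (α β : F) : ∃ x ∈ D.W', B a x = α ∧ B b x = β := by
  obtain ⟨x1, hx1, h1⟩ := D.nd' ha ha0
  set x1' := (B a x1)⁻¹ • x1 with hx1'
  have e1 : B a x1' = 1 := by simp [hx1', inv_mul_cancel₀ h1]
  set b2 := b - B b x1' • a with hb2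
  obtain ⟨x2, hx2, h2⟩ := D.nd' (D.W'.sub_mem hb (D.W'.smul_mem (B b x1') ha)) (sub_ne_zero.2 (hind _))
  set x2' := (B b2 x2)⁻¹ • (x2 - B a x2 • x1') with hx2'
  have hx1W : x1' ∈ D.W' := D.W'.smul_mem _ hx1
  have hx2W : x2' ∈ D.W' := D.W'.smul_mem _ (D.W'.sub_mem hx2 (D.W'.smul_mem _ hx1W))
  have e2 : B a x2' = 0 := by simp [hx2', e1]
  have h2' : B b x2 - B b x1' * B a x2 ≠ 0 := by simpa [hb2] using h2
  have e3 : B b x2' = 1 := by
    simp only [hx2', hb2, map_smul, map_sub, LinearMap.sub_apply, LinearMap.smul_apply, smul_eq_mul]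
    rw [mul_comm (B a x2), inv_mul_cancel₀ h2']
  refine ⟨α • x1' + (β - α * B b x1') • x2', D.W'.add_mem (D.W'.smul_mem _ hx1W) (D.W'.smul_mem _ hx2W), ?_, ?_⟩
  · simp [e1, e2]
  · simp [e3]

theorem good {a b : V} (ha : a ∈ D.W') (hb : b ∈ D.W') : D.Good a b := by
  by_cases ha0 : a = 0
  · rw [ha0]; exact D.good_zero_left hb
  by_cases hab : B a b = 0
  swap
  · exact D.good_hyp ha hb hab
  by_cases hind : ∀ c : F, b ≠ c • a
  swap
  · push Not at hind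
    obtain ⟨c, rfl⟩ := hind
    obtain ⟨k, hk, hka⟩ := D.exists_K ha ha0 D.he' D.e'_ne
    refine D.good_conj ha hb hk ?_
    rw [show π k • (c • a) = c • (π k • a) by simp [smul_eq_apply], hka]
    exact D.good_of_inQ D.inQ_e' (D.inQ_smul_e' c)
  rcases D.scal with ⟨α, hα0, hα1⟩ | hiso
  swap
  · obtain ⟨k, hk, hka⟩ := D.exists_K ha ha0 D.he' D.e'_ne
    refine D.good_conj ha hb hk ?_
    have hbW : π k • b ∈ D.W' := D.piK_W' hk hb
    have heb : B D.e' (π k • b) = 0 := by rw [← hka, form_smul, hab]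
    have hindb : ∀ c : F, π k • b ≠ c • D.e' := fun c h => hind c (by
      rw [← hka, show c • (π k • a) = π k • (c • a) by simp [smul_eq_apply]] at h
      exact smul_left_cancel (π k) h)
    rw [hka]
    generalize π k • b = b' at hbW heb hindb
    have hb0 : b' ≠ 0 := fun h => hindb 0 (by rw [h, zero_smul])
    have hs : D.e' + b' ≠ 0 := fun h => hindb (-1) (by rw [neg_one_smul]; exact eq_neg_of_add_eq_zero_right h)
    obtain ⟨k1, hk1, hk1b⟩ := D.exists_K D.he' D.e'_ne hbW hb0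
    obtain ⟨k2, hk2, hk2b⟩ := D.exists_K D.he' D.e'_ne (D.W'.add_mem D.he' hbW) hs
    rw [Good, D.rho_eq (one_mem _) (show π (1 : K) • D.e' = D.e' by rw [map_one, one_smul]),
      D.rho_eq hk1 hk1b, D.rho_eq hk2 hk2b, heb,
      show D.z 0 = 1 from D.eqAM (Subgroup.mem_sup_right (D.z_mem_M 0)) (one_mem _)
        (by rw [D.pi_z, sg_zero, map_one])]
    simpa using hiso b' hbW heb hindb k1 hk1 k2 hk2 hk1b hk2b D.m1 D.m1_mem D.pi_m1
  obtain ⟨x, hx, hax, hbx⟩ := D.exists_dual ha hb hind ha0 1 (-α)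
  have hbx' : b - x ∈ D.W' := D.W'.sub_mem hb hx
  have g1 : D.Good (b - x) x := D.good_hyp hbx' hx (by simp [D.hA x, hbx, hα0])
  have g2 : D.Good a (b - x) := D.good_hyp ha hbx' (by simp [hab, hax])
  have g3 : D.Good (a + (b - x)) x := D.good_hyp (D.W'.add_mem ha hbx') hx (by
    simp only [map_add, map_sub, LinearMap.add_apply, LinearMap.sub_apply, D.hA x, hax, hbx, sub_zero]
    intro h
    exact hα1 (by linear_combination -h))
  rw [Good, sub_add_cancel] at g1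
  rw [Good] at g2
  rw [Good, show a + (b - x) + x = a + b by abel] at g3
  have zz : ∀ s t, D.z s * D.z t = D.z (s + t) := fun s t =>
    D.eqAM (mul_mem (Subgroup.mem_sup_right (D.z_mem_M s)) (Subgroup.mem_sup_right (D.z_mem_M t)))
      (Subgroup.mem_sup_right (D.z_mem_M _)) (by simp [D.pi_z, sg_add D.hA (by simp : B D.e 0 = 0)])
  rw [Good]
  calc D.ρ a * D.ρ b = D.ρ a * ((D.ρ (b - x) * D.ρ x) * (D.z (B (b - x) x))⁻¹) := by rw [g1]; group
    _ = D.ρ a * D.ρ (b - x) * D.ρ x * (D.z (B (b - x) x))⁻¹ := by group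
    _ = D.ρ (a + (b - x)) * (D.z (B a (b - x)) * D.ρ x) * (D.z (B (b - x) x))⁻¹ := by rw [g2]; group
    _ = D.ρ (a + (b - x)) * D.ρ x * D.z (B a (b - x)) * (D.z (B (b - x) x))⁻¹ := by
      rw [(D.z_commute_rho _ x hx).eq]; group
    _ = D.ρ (a + b) * (D.z (B (a + (b - x)) x) * D.z (B a (b - x)) * (D.z (B (b - x) x))⁻¹) := by rw [g3]; group
    _ = D.ρ (a + b) * D.z (B a b) := by
      have hs : B (a + (b - x)) x + B a (b - x) = B a b + B (b - x) x := by
        simp only [map_add, map_sub, LinearMap.add_apply, LinearMap.sub_apply]; ring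
      rw [zz, hs, ← zz, mul_inv_cancel_right]

theorem z_zero : D.z 0 = 1 :=
  D.eqAM (Subgroup.mem_sup_right (D.z_mem_M 0)) (one_mem _) (by rw [D.pi_z, sg_zero, map_one])

theorem z_add (s t : F) : D.z s * D.z t = D.z (s + t) :=
  D.eqAM (mul_mem (Subgroup.mem_sup_right (D.z_mem_M s)) (Subgroup.mem_sup_right (D.z_mem_M t)))
    (Subgroup.mem_sup_right (D.z_mem_M _)) (by simp [D.pi_z, sg_add D.hA (by simp : B D.e 0 = 0)])

/-- The lift of the stabiliser of `e`. -/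
def P1 : Subgroup K where
  carrier := {x | ∃ t, ∃ y ∈ D.W', ∃ k ∈ D.K', x = D.z t * D.ρ y * k}
  one_mem' := ⟨0, 0, D.W'.zero_mem, 1, one_mem _, by simp [D.z_zero, D.rho_zero]⟩
  mul_mem' := by
    rintro _ _ ⟨t, y, hy, k, hk, rfl⟩ ⟨t', y', hy', k', hk', rfl⟩
    have hy2 := D.piK_W' hk hy'
    refine ⟨t + t' + B y (π k • y'), y + π k • y', D.W'.add_mem hy hy2, k * k', mul_mem hk hk', ?_⟩
    have h := D.good hy hy2
    rw [Good, ← (D.z_commute_rho _ _ (D.W'.add_mem hy hy2)).eq] at h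
    calc D.z t * D.ρ y * k * (D.z t' * D.ρ y' * k')
        = D.z t * D.ρ y * (k * D.z t') * D.ρ y' * k' := by group
      _ = D.z t * (D.ρ y * D.z t') * k * D.ρ y' * k' := by rw [← (D.z_commute_K hk t').eq]; group
      _ = D.z t * D.z t' * D.ρ y * (k * D.ρ y' * k⁻¹) * (k * k') := by rw [← (D.z_commute_rho t' y hy).eq]; group
      _ = D.z (t + t') * (D.z (B y (π k • y')) * D.ρ (y + π k • y')) * (k * k') := by
        rw [D.rho_conj hk hy', z_add, ← h]; group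
      _ = D.z (t + t' + B y (π k • y')) * D.ρ (y + π k • y') * (k * k') := by
        rw [← D.z_add (t + t')]; group
  inv_mem' := by
    rintro _ ⟨t, y, hy, k, hk, rfl⟩
    have hy1 := D.W'.neg_mem hy
    have h := D.good hy hy1
    rw [Good, add_neg_cancel, D.rho_zero, map_neg, D.hA y, neg_zero, D.z_zero, one_mul] at h
    have hzi : (D.z t)⁻¹ = D.z (-t) := inv_eq_of_mul_eq_one_right (by rw [z_add, add_neg_cancel, z_zero])
    refine ⟨-t, π k⁻¹ • (-y), D.piK_W' (inv_mem hk) hy1, k⁻¹, inv_mem hk, ?_⟩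
    rw [← D.rho_conj (inv_mem hk) hy1, ← inv_eq_of_mul_eq_one_right h, ← hzi]
    calc (D.z t * D.ρ y * k)⁻¹ = k⁻¹ * (D.z t * D.ρ y)⁻¹ := by group
      _ = k⁻¹ * (D.ρ y * D.z t)⁻¹ := by rw [(D.z_commute_rho t y hy).eq]
      _ = (k⁻¹ * (D.z t)⁻¹) * (D.ρ y)⁻¹ := by group
      _ = ((D.z t)⁻¹ * k⁻¹) * (D.ρ y)⁻¹ := by rw [((D.z_commute_K hk t).inv_inv).eq]
      _ = (D.z t)⁻¹ * (k⁻¹ * (D.ρ y)⁻¹ * k⁻¹⁻¹) * k⁻¹ := by group

theorem z_mem_P1 (t : F) : D.z t ∈ D.P1 := ⟨t, 0, D.W'.zero_mem, 1, one_mem _, by simp [D.rho_zero]⟩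
theorem rho_mem_P1 {y : V} (hy : y ∈ D.W') : D.ρ y ∈ D.P1 := ⟨0, y, hy, 1, one_mem _, by simp [D.z_zero]⟩
theorem K_le_P1 : D.K' ≤ D.P1 := fun k hk => ⟨0, 0, D.W'.zero_mem, k, hk, by simp [D.z_zero, D.rho_zero]⟩

theorem exists_T {y : V} (hy : y ∈ D.W') (t : F) : ∃ k ∈ D.K', π k = sg D.hA y 0 t := by
  have : sg D.hA y 0 t ∈ D.K'.map π := by rw [D.imK]; exact D.sg_mem_K hy t
  exact this

theorem sg_e'_mem_S (t : F) : sg D.hA D.e' 0 t ∈ D.S.map π := by
  refine D.imS ?_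
  rintro c (hc | hc)
  · exact D.sg_mem_K D.he' t c hc
  · exact sg_fix D.hA hc.2.1 (by simp) t

theorem exists_T_M (t : F) : ∃ x ∈ D.M, x ∈ D.K' ∧ π x = sg D.hA D.e' 0 t := by
  have h : sg D.hA D.e' 0 t ∈ D.M.map π := by
    have h2 := D.M_sup 0 0 t
    simpa [sg_zero] using h2
  obtain ⟨m, hm, hm'⟩ := h
  obtain ⟨s, hs, hs'⟩ := D.sg_e'_mem_S t
  have : s = m := D.eqMS (Subgroup.mem_sup_right hs) (Subgroup.mem_sup_left hm) (by rw [hs', hm'])
  exact ⟨m, hm, this ▸ D.S_le hs, hm'⟩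

theorem M_le_P1 : D.M ≤ D.P1 := by
  intro m hm
  obtain ⟨c, t, d, h⟩ := D.M_sub m hm
  obtain ⟨x, hx, hxK, hx'⟩ := D.exists_T_M d
  have hρ := D.rho_smul_mem_M c
  have hy := D.W'.smul_mem c D.he'
  have : m = D.z t * D.ρ (c • D.e') * x := by
    refine D.eqAM (Subgroup.mem_sup_right hm)
      (Subgroup.mem_sup_right (mul_mem (mul_mem (D.z_mem_M t) hρ) hx)) ?_
    rw [h, map_mul, map_mul, D.pi_z, D.pi_rho hy, hx', sg_add D.hA (by simp : B D.e 0 = 0) (D.B_e hy)]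
    simp
  exact ⟨t, _, hy, x, hxK, this⟩

theorem injOn_P1 : Set.InjOn π D.P1 := by
  intro a ha b hb hab
  have h : π (a⁻¹ * b) = 1 := by rw [map_mul, map_inv, hab, inv_mul_cancel]
  obtain ⟨t, y, hy, k, hk, he⟩ := mul_mem (inv_mem ha) hb
  rw [he, map_mul, map_mul, D.pi_z, D.pi_rho hy, sg_add D.hA (by simp : B D.e 0 = 0) (D.B_e hy)] at h
  simp only [zero_add, map_zero, LinearMap.zero_apply, add_zero] at h
  have hf := congrArg (· • D.f) h
  simp only [one_smul, mul_smul, D.piK_f hk, sg_smul D.hA (D.B_e hy), D.B_ef, D.B_f_swap hy, zero_smul,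
    add_zero] at hf
  have hy0 : y = 0 := by
    have h2 : -y - t • D.e = 0 := by linear_combination (norm := module) hf
    have hBt := congrArg (B D.f) h2
    simp [D.B_f hy, D.hfe] at hBt
    simpa [hBt] using h2
  have ht : t = 0 := by
    subst hy0
    have hBt := congrArg (B D.f) hf
    simpa [D.hfe, D.hA D.f] using hBt
  subst hy0 ht
  rw [sg_zero, one_mul] at h
  have hk1 : k = 1 := D.eqK hk (one_mem _) (by rw [h, map_one])
  rw [hk1, D.z_zero, D.rho_zero, one_mul, one_mul] at he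
  exact inv_mul_eq_one.1 he

end Data

end Cfsg.Agent.SympAmalgam
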