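/-
Area SympAmalgam: the conclusion of the inductive step, by an equivariant map from the non-zero vectors of `W` to the
cosets of the lifted stabiliser of `e`.
-/
import Cfsg.Agent.Lib.SympAmalgam.Radical

set_option autoImplicit false

namespace Cfsg.Agent.SympAmalgam

open Cfsg.Agent.ClassicalSimple

variable {F : Type*} [Field F] {V : Type*} [AddCommGroup V] [Module F V] {B : LinearMap.BilinForm F V}
  {K : Type*} [Group K]

namespace Data

variable {π : K →* SpB B} (D : Data B π)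

theorem e_ne : D.e ≠ 0 := fun h => by simpa [h] using D.hfe

theorem z_smul_e (t : F) : π (D.z t) • D.e = D.e := by
  rw [D.pi_z]; exact sg_fix D.hA (D.hA _) (by simp) t

theorem exists_z_of_fix {a : K} (ha : a ∈ D.A) (he : π a • D.e = D.e) : ∃ t, a = D.z t := by
  set v := π a • D.f with hv
  have hvP : D.InP v := D.piA_inP ha D.inP_f
  have hev : B D.e v = -1 := by
    conv_lhs => rw [hv, ← he, form_smul]
    exact D.B_ef
  refine ⟨-B D.f v, D.eqAM (Subgroup.mem_sup_left ha) (Subgroup.mem_sup_right (D.z_mem_M _)) ?_⟩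
  refine D.ext_fix (D.piA_C ha) (D.piA_C (D.z_mem_A _)) ?_ ?_ fun y hy => ?_
  · rw [he, D.z_smul_e]
  · rw [D.pi_z, sg_smul D.hA (by simp : B D.e 0 = 0)]
    have h := D.pl_eq_self hvP
    rw [pl, hev] at h
    rw [← hv, ← h]
    simp [D.hfe, D.hA D.f, D.B_ef]
    try module
  · rw [D.piA_W' ha hy, D.piA_W' (D.z_mem_A _) hy]

open Classical in
/-- An element of `A` moving `e` to a given vector of the plane. -/
noncomputable def aOf (u : V) : K :=
  if h : D.InP u ∧ u ≠ 0 then Classical.choose (D.exists_A D.inP_e D.e_ne h.1 h.2) else 1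

theorem aOf_mem (u : V) : D.aOf u ∈ D.A := by
  unfold aOf
  split
  · next h => exact (Classical.choose_spec (D.exists_A D.inP_e D.e_ne h.1 h.2)).1
  · exact one_mem _

theorem aOf_smul {u : V} (hu : D.InP u) (h0 : u ≠ 0) : π (D.aOf u) • D.e = u := by
  unfold aOf
  rw [dif_pos ⟨hu, h0⟩]
  exact (Classical.choose_spec (D.exists_A D.inP_e D.e_ne hu h0)).2

open Classical in
/-- The lift of the root element of `u` and `y`. -/
noncomputable def R (u y : V) : K := if u = 0 then 1 else D.aOf u * D.ρ y * (D.aOf u)⁻¹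

theorem R_eq {a : K} (ha : a ∈ D.A) {y : V} (hy : y ∈ D.W') : D.R (π a • D.e) y = a * D.ρ y * a⁻¹ := by
  have hu := D.piA_inP ha D.inP_e
  have h0 : π a • D.e ≠ 0 := by rw [Ne, smul_eq_zero_iff_eq]; exact D.e_ne
  rw [R, if_neg h0]
  set a' := D.aOf (π a • D.e)
  have ha' : a' ∈ D.A := D.aOf_mem _
  obtain ⟨t, ht⟩ := D.exists_z_of_fix (mul_mem (inv_mem ha) ha')
    (by rw [map_mul, map_inv, mul_smul, D.aOf_smul hu h0, inv_smul_smul])
  rw [inv_mul_eq_iff_eq_mul] at ht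
  rw [ht]
  calc a * D.z t * D.ρ y * (a * D.z t)⁻¹ = a * (D.z t * D.ρ y) * (D.z t)⁻¹ * a⁻¹ := by group
    _ = a * D.ρ y * a⁻¹ := by rw [(D.z_commute_rho t y hy).eq]; group

theorem R_e {y : V} (hy : y ∈ D.W') : D.R D.e y = D.ρ y := by
  have := D.R_eq (one_mem D.A) hy
  simpa using this

theorem R_left_zero (y : V) : D.R 0 y = 1 := if_pos rfl

theorem R_right_zero (u : V) : D.R u 0 = 1 := by
  by_cases h : u = 0
  · rw [h, R_left_zero]
  · rw [R, if_neg h, D.rho_zero]; group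

theorem pi_R {u y : V} (hu : D.InP u) (hy : y ∈ D.W') : π (D.R u y) = sg D.hA u y 0 := by
  by_cases h : u = 0
  · rw [h, R_left_zero, map_one, sg_zero_left]
  · rw [R, if_neg h, conj_pi, D.pi_rho hy, sg_conj _ _ (D.B_e hy), D.aOf_smul hu h, D.piA_W' (D.aOf_mem u) hy]

theorem R_conj_A {a : K} (ha : a ∈ D.A) {u y : V} (hu : D.InP u) (hy : y ∈ D.W') :
    a * D.R u y * a⁻¹ = D.R (π a • u) y := by
  by_cases h : u = 0
  · rw [h, smul_zero, R_left_zero]; group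
  · obtain ⟨a', ha', rfl⟩ := D.exists_A D.inP_e D.e_ne hu h
    rw [← mul_smul, ← map_mul, D.R_eq (mul_mem ha ha') hy, D.R_eq ha' hy]
    group

theorem R_conj_K {k : K} (hk : k ∈ D.K') (u : V) {y : V} (hy : y ∈ D.W') :
    k * D.R u y * k⁻¹ = D.R u (π k • y) := by
  by_cases h : u = 0
  · rw [h, R_left_zero, R_left_zero]; group
  · have hc := D.comm _ (D.aOf_mem u) k hk
    rw [R, R, if_neg h, if_neg h, ← D.rho_conj hk hy]
    calc k * (D.aOf u * D.ρ y * (D.aOf u)⁻¹) * k⁻¹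
        = k * D.aOf u * D.ρ y * ((D.aOf u)⁻¹ * k⁻¹) := by group
      _ = D.aOf u * k * D.ρ y * (k⁻¹ * (D.aOf u)⁻¹) := by rw [hc.symm.eq, hc.inv_inv.eq]
      _ = D.aOf u * (k * D.ρ y * k⁻¹) * (D.aOf u)⁻¹ := by group

theorem R_e'_mem {u : V} (hu : D.InP u) : D.R u D.e' ∈ D.A ⊔ D.M := by
  by_cases h : u = 0
  · rw [h, R_left_zero]; exact one_mem _
  · have hρ : D.ρ D.e' ∈ D.M := by simpa using D.rho_smul_mem_M (1 : F)
    rw [R, if_neg h]
    exact mul_mem (mul_mem (Subgroup.mem_sup_left (D.aOf_mem u)) (Subgroup.mem_sup_right hρ))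
      (inv_mem (Subgroup.mem_sup_left (D.aOf_mem u)))

theorem R_smul_left {u y : V} (hu : D.InP u) (hy : y ∈ D.W') (c : F) : D.R (c • u) y = D.R u (c • y) := by
  by_cases hc : c = 0
  · simp [hc, R_left_zero, R_right_zero]
  by_cases h : u = 0
  · simp [h, R_left_zero]
  by_cases h' : y = 0
  · simp [h', R_right_zero]
  -- it is enough to treat `u = e`
  suffices he : D.R (c • D.e) y = D.R D.e (c • y) by
    obtain ⟨a, ha, rfl⟩ := D.exists_A D.inP_e D.e_ne hu h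
    rw [show c • (π a • D.e) = π a • (c • D.e) by simp [smul_eq_apply],
      ← D.R_conj_A ha (D.inP_smul D.inP_e c) hy, ← D.R_conj_A ha D.inP_e (D.W'.smul_mem c hy), he]
  obtain ⟨k, hk, rfl⟩ := D.exists_K D.he' D.e'_ne hy h'
  rw [show c • (π k • D.e') = π k • (c • D.e') by simp [smul_eq_apply], ← D.R_conj_K hk (c • D.e) D.he',
    ← D.R_conj_K hk D.e (D.W'.smul_mem c D.he')]
  congr 2
  rw [D.R_e (D.W'.smul_mem c D.he')]
  refine D.eqAM (D.R_e'_mem (D.inP_smul D.inP_e c)) (Subgroup.mem_sup_right (D.rho_smul_mem_M c)) ?_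
  rw [D.pi_R (D.inP_smul D.inP_e c) D.he', D.pi_rho (D.W'.smul_mem c D.he'), sg_scale D.hA D.B_ee']

theorem R_neg {u y : V} (hu : D.InP u) (hy : y ∈ D.W') : D.R u (-y) = D.R (-u) y := by
  rw [← neg_one_smul F y, ← D.R_smul_left hu hy, neg_one_smul]

theorem R_add_left {u u' y : V} (hu : D.InP u) (hu' : D.InP u') (hy : y ∈ D.W') :
    ∃ T ∈ D.K', π T = sg D.hA y 0 (B u u') ∧ D.R u y * D.R u' y = D.R (u + u') y * T := by
  by_cases hy0 : y = 0
  · exact ⟨1, one_mem _, by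
      rw [hy0, map_one]
      exact SpB.ext' fun x => by simp [sg_smul D.hA (by simp : B (0 : V) 0 = 0)], by simp [hy0, R_right_zero]⟩
  obtain ⟨k, hk, rfl⟩ := D.exists_K D.he' D.e'_ne hy hy0
  obtain ⟨T, hTM, hTK, hT⟩ := D.exists_T_M (B u u')
  refine ⟨k * T * k⁻¹, mul_mem (mul_mem hk hTK) (inv_mem hk), ?_, ?_⟩
  · rw [conj_pi, hT, sg_conj D.hA _ (by simp : B D.e' 0 = 0), smul_zero]
  · have h : D.R u D.e' * D.R u' D.e' = D.R (u + u') D.e' * T := by
      refine D.eqAM (mul_mem (D.R_e'_mem hu) (D.R_e'_mem hu'))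
        (mul_mem (D.R_e'_mem (D.inP_add hu hu')) (Subgroup.mem_sup_right hTM)) ?_
      rw [map_mul, map_mul, D.pi_R hu D.he', D.pi_R hu' D.he', D.pi_R (D.inP_add hu hu') D.he', hT,
        sg_add_left D.hA (hu.2 _ D.he') (hu'.2 _ D.he')]
    rw [← D.R_conj_K hk u D.he', ← D.R_conj_K hk u' D.he', ← D.R_conj_K hk (u + u') D.he']
    calc k * D.R u D.e' * k⁻¹ * (k * D.R u' D.e' * k⁻¹) = k * (D.R u D.e' * D.R u' D.e') * k⁻¹ := by group
      _ = k * D.R (u + u') D.e' * k⁻¹ * (k * T * k⁻¹) := by rw [h]; group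

theorem R_add_right {u y y' : V} (hu : D.InP u) (hy : y ∈ D.W') (hy' : y' ∈ D.W') :
    ∃ a ∈ D.A, π a = sg D.hA u 0 (B y y') ∧ D.R u y * D.R u y' = D.R u (y + y') * a := by
  by_cases h : u = 0
  · refine ⟨1, one_mem _, ?_, by simp [h, R_left_zero]⟩
    rw [map_one]
    rw [h]
    exact SpB.ext' fun x => by simp [sg_smul D.hA (by simp : B (0 : V) 0 = 0)]
  obtain ⟨a, ha, rfl⟩ := D.exists_A D.inP_e D.e_ne hu h
  refine ⟨a * D.z (B y y') * a⁻¹, mul_mem (mul_mem ha (D.z_mem_A _)) (inv_mem ha), ?_, ?_⟩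
  · rw [conj_pi, D.pi_z, sg_conj D.hA _ (by simp : B D.e 0 = 0), smul_zero]
  · rw [D.R_eq ha hy, D.R_eq ha hy', D.R_eq ha (D.W'.add_mem hy hy')]
    calc a * D.ρ y * a⁻¹ * (a * D.ρ y' * a⁻¹) = a * (D.ρ y * D.ρ y') * a⁻¹ := by group
      _ = _ := by rw [show D.ρ y * D.ρ y' = _ from D.good hy hy']; group

theorem R_mul_R_neg {u y : V} (hu : D.InP u) (hy : y ∈ D.W') : D.R u y * D.R u (-y) = 1 := by
  obtain ⟨a, ha, hπ, h⟩ := D.R_add_right hu hy (D.W'.neg_mem hy)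
  have h1 : a = 1 := D.eqAM (Subgroup.mem_sup_left ha) (one_mem _)
    (by rw [hπ, map_neg, D.hA y, neg_zero, sg_zero, map_one])
  rw [h, h1, add_neg_cancel, R_right_zero, one_mul]

/-- The group generated by the three pieces. -/
def tot : Subgroup K := D.A ⊔ D.M ⊔ D.K'

theorem A_le_tot : D.A ≤ D.tot := le_sup_left.trans le_sup_left
theorem M_le_tot : D.M ≤ D.tot := le_sup_right.trans le_sup_left
theorem K_le_tot : D.K' ≤ D.tot := le_sup_right

theorem rho_mem_tot {y : V} (hy : y ∈ D.W') : D.ρ y ∈ D.tot := by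
  by_cases h : y = 0
  · rw [h, D.rho_zero]; exact one_mem _
  · obtain ⟨k, hk, hky⟩ := D.exists_K D.he' D.e'_ne hy h
    rw [D.rho_eq hk hky]
    exact mul_mem (mul_mem (D.K_le_tot hk) (D.M_le_tot D.m1_mem)) (inv_mem (D.K_le_tot hk))

theorem R_mem_tot {u y : V} (hy : y ∈ D.W') : D.R u y ∈ D.tot := by
  by_cases h : u = 0
  · rw [h, R_left_zero]; exact one_mem _
  · rw [R, if_neg h]
    exact mul_mem (mul_mem (D.A_le_tot (D.aOf_mem u)) (D.rho_mem_tot hy))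
      (inv_mem (D.A_le_tot (D.aOf_mem u)))

/-- The coset over a vector of the plane. -/
noncomputable def Pt (u : V) : K ⧸ D.P1 := QuotientGroup.mk (D.aOf u)

theorem Pt_eq {a : K} (ha : a ∈ D.A) : D.Pt (π a • D.e) = QuotientGroup.mk a := by
  rw [Pt, QuotientGroup.eq]
  obtain ⟨t, ht⟩ := D.exists_z_of_fix (mul_mem (inv_mem (D.aOf_mem (π a • D.e))) ha) (by
    rw [map_mul, map_inv, mul_smul, inv_smul_eq_iff, D.aOf_smul (D.piA_inP ha D.inP_e)
      (by rw [Ne, smul_eq_zero_iff_eq]; exact D.e_ne)])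
  rw [ht]
  exact D.z_mem_P1 t

theorem A_smul_Pt {a : K} (ha : a ∈ D.A) {u : V} (hu : D.InP u) (h0 : u ≠ 0) : a • D.Pt u = D.Pt (π a • u) := by
  have h := D.Pt_eq (mul_mem ha (D.aOf_mem u))
  rw [map_mul, mul_smul, D.aOf_smul hu h0] at h
  rw [h]; rfl

theorem K_smul_Pt {k : K} (hk : k ∈ D.K') (u : V) : k • D.Pt u = D.Pt u := by
  rw [Pt]
  show QuotientGroup.mk (k * D.aOf u) = QuotientGroup.mk (D.aOf u)
  rw [(D.comm _ (D.aOf_mem u) k hk).symm.eq, QuotientGroup.eq]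
  have : (D.aOf u * k)⁻¹ * D.aOf u = k⁻¹ := by group
  rw [this]
  exact inv_mem (D.K_le_P1 hk)

/-- A vector paired to `1` with a non-zero vector of the plane. -/
noncomputable def dual (u : V) : V := π (D.aOf u) • D.f

theorem dual_inP (u : V) : D.InP (D.dual u) := D.piA_inP (D.aOf_mem u) D.inP_f

theorem dual_pair {u : V} (hu : D.InP u) (h0 : u ≠ 0) : B (D.dual u) u = 1 := by
  conv_lhs => arg 2; rw [← D.aOf_smul hu h0]
  rw [dual, form_smul, D.hfe]

theorem exists_coeff {u w : V} (hu : D.InP u) (hu0 : u ≠ 0) (hw : D.InP w) (h : B u w = 0) :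
    ∃ c : F, w = c • u := by
  obtain ⟨a, ha, rfl⟩ := D.exists_A D.inP_e D.e_ne hu hu0
  set w' := (π a)⁻¹ • w with hw'
  have hP : D.InP w' := by rw [hw', ← map_inv]; exact D.piA_inP (inv_mem ha) hw
  have h' : B D.e w' = 0 := by rwa [← form_smul (π a), hw', smul_inv_smul]
  refine ⟨B D.f w', ?_⟩
  have h2 : w' = B D.f w' • D.e := by
    conv_lhs => rw [← D.pl_eq_self hP, pl, h', zero_smul, sub_zero]
  calc w = π a • w' := by rw [hw', smul_inv_smul]
    _ = π a • (B D.f w' • D.e) := by rw [← h2]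
    _ = B D.f w' • (π a • D.e) := by simp [smul_eq_apply]

/-- The coset over a vector with non-zero projection to the plane. -/
noncomputable def psiNZ (v : V) : K ⧸ D.P1 := D.R (D.dual (D.pl v)) (v - D.pl v) • D.Pt (D.pl v)

theorem psiNZ_eq {w u y : V} (hw : D.InP w) (hu : D.InP u) (hu0 : u ≠ 0) (hy : y ∈ D.W') (h : B w u = 1) :
    D.R w y • D.Pt u = D.psiNZ (u + y) := by
  rw [psiNZ, D.pl_add hu hy, add_sub_cancel_left]
  set d := D.dual u
  have hd : D.InP d := D.dual_inP u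
  obtain ⟨c, hc⟩ := D.exists_coeff hu hu0 (D.inP_sub hw hd)
    (by rw [swap_eq D.hA, map_sub, LinearMap.sub_apply, h, D.dual_pair hu hu0, sub_self, neg_zero])
  have hwd : w = d + c • u := by rw [← hc]; abel
  obtain ⟨T, hT, -, hR⟩ := D.R_add_left hd (D.inP_smul hu c) hy
  rw [hwd, eq_mul_inv_of_mul_eq hR.symm, mul_smul, mul_smul, D.K_smul_Pt (inv_mem hT)]
  congr 1
  rw [D.R_smul_left hu hy, Pt]
  show QuotientGroup.mk (D.R u (c • y) * D.aOf u) = QuotientGroup.mk (D.aOf u)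
  rw [QuotientGroup.eq, R, if_neg hu0]
  have : (D.aOf u * D.ρ (c • y) * (D.aOf u)⁻¹ * D.aOf u)⁻¹ * D.aOf u = (D.ρ (c • y))⁻¹ := by group
  rw [this]
  exact inv_mem (D.rho_mem_P1 (D.W'.smul_mem c hy))

open Classical in
/-- A vector of `W'` paired to a non-zero value with `y`. -/
noncomputable def xOf (y : V) : V :=
  if h : ∃ x ∈ D.W', B x y ≠ 0 then Classical.choose h else 0

theorem xOf_spec {y : V} (hy : y ∈ D.W') (h0 : y ≠ 0) : D.xOf y ∈ D.W' ∧ B (D.xOf y) y ≠ 0 := by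
  have h : ∃ x ∈ D.W', B x y ≠ 0 := by
    obtain ⟨x, hx, hne⟩ := D.nd' hy h0
    exact ⟨x, hx, by rw [swap_eq D.hA y x]; simpa using hne⟩
  unfold xOf
  rw [dif_pos h]
  exact Classical.choose_spec h

open Classical in
/-- The equivariant map. -/
noncomputable def Ψ (v : V) : K ⧸ D.P1 :=
  if D.pl v = 0 then D.R D.e (-D.xOf v) • D.psiNZ (B (D.xOf v) v • D.e + v) else D.psiNZ v

theorem psi_nz {v : V} (h : D.pl v ≠ 0) : D.Ψ v = D.psiNZ v := if_neg h

theorem pl_of_W' {y : V} (hy : y ∈ D.W') : D.pl y = 0 := by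
  simpa using D.pl_add D.inP_zero hy

theorem psi_add {u y : V} (hu : D.InP u) (hu0 : u ≠ 0) (hy : y ∈ D.W') : D.Ψ (u + y) = D.psiNZ (u + y) :=
  D.psi_nz (by rwa [D.pl_add hu hy])

theorem psi_smul {w u y : V} (hw : D.InP w) (hu : D.InP u) (hu0 : u ≠ 0) (hy : y ∈ D.W') (h : B w u = 1) :
    D.R w y • D.Pt u = D.Ψ (u + y) := by
  rw [D.psi_add hu hu0 hy, D.psiNZ_eq hw hu hu0 hy h]

/-- `γ` commutes with `Ψ` at `v`. -/
def OkAt (γ : K) (v : V) : Prop := γ • D.Ψ v = D.Ψ (π γ • v)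

theorem OkAt.mul {a b : K} {v : V} (hb : D.OkAt b v) (ha : D.OkAt a (π b • v)) : D.OkAt (a * b) v := by
  rw [OkAt, mul_smul, hb, ha, map_mul, mul_smul]

theorem ok_A_nz {a : K} (ha : a ∈ D.A) {u y : V} (hu : D.InP u) (hu0 : u ≠ 0) (hy : y ∈ D.W') :
    D.OkAt a (u + y) := by
  have hd := D.dual_pair hu hu0
  have h0 : π a • u ≠ 0 := by rw [Ne, smul_eq_zero_iff_eq]; exact hu0
  rw [OkAt, ← D.psi_smul (D.dual_inP u) hu hu0 hy hd, show π a • (u + y) = π a • u + y by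
    rw [smul_eq_apply, map_add, ← smul_eq_apply, ← smul_eq_apply, D.piA_W' ha hy], ← mul_smul,
    show a * D.R (D.dual u) y = a * D.R (D.dual u) y * a⁻¹ * a by group, mul_smul, D.A_smul_Pt ha hu hu0,
    D.R_conj_A ha (D.dual_inP u) hy, D.psi_smul (D.piA_inP ha (D.dual_inP u)) (D.piA_inP ha hu) h0 hy
      (by rw [form_smul, hd])]

theorem ok_K_nz {k : K} (hk : k ∈ D.K') {u y : V} (hu : D.InP u) (hu0 : u ≠ 0) (hy : y ∈ D.W') :
    D.OkAt k (u + y) := by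
  have hd := D.dual_pair hu hu0
  rw [OkAt, ← D.psi_smul (D.dual_inP u) hu hu0 hy hd, show π k • (u + y) = u + π k • y by
    rw [smul_eq_apply, map_add, ← smul_eq_apply, ← smul_eq_apply, D.piK_inP hk hu], ← mul_smul,
    show k * D.R (D.dual u) y = k * D.R (D.dual u) y * k⁻¹ * k by group, mul_smul, D.K_smul_Pt hk,
    D.R_conj_K hk _ hy, D.psi_smul (D.dual_inP u) hu hu0 (D.piK_W' hk hy) hd]

theorem ok_R_far {w u y y' : V} (hw : D.InP w) (hu : D.InP u) (hy : y ∈ D.W') (hy' : y' ∈ D.W')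
    (hd : B w u ≠ 0) : D.OkAt (D.R w y') (u + y) := by
  have hu0 : u ≠ 0 := fun h => hd (by simp [h])
  set d := B w u with hddef
  set w1 := d⁻¹ • w with hw1
  have hw1P : D.InP w1 := D.inP_smul hw _
  have h1 : B w1 u = 1 := by simp [hw1, ← hddef, inv_mul_cancel₀ hd]
  have hdy := D.W'.smul_mem d hy'
  have hR : D.R w y' = D.R w1 (d • y') := by
    rw [← D.R_smul_left hw1P hy', hw1, smul_smul, mul_inv_cancel₀ hd, one_smul]
  obtain ⟨a, ha, hπa, hadd⟩ := D.R_add_right hw1P hdy hy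
  have hn : π a • u = u + B (d • y') y • w1 := by
    rw [hπa, sg_smul D.hA (by simp : B w1 0 = 0), h1]
    simp
  have hu' := D.piA_inP ha hu
  have hu'0 : π a • u ≠ 0 := by rw [Ne, smul_eq_zero_iff_eq]; exact hu0
  have himg : π (D.R w y') • (u + y) = π a • u + (d • y' + y) := by
    rw [D.pi_R hw hy', sg_smul D.hA (hw.2 _ hy'), hn]
    simp only [map_add, map_smul, LinearMap.smul_apply, smul_eq_mul, hu.swap D hy', hw.2 _ hy, hw1, ← hddef,
      zero_add, zero_mul, zero_smul, add_zero, smul_smul]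
    match_scalars <;> field_simp
  rw [OkAt, himg, ← D.psi_smul hw1P hu hu0 hy h1, hR, ← mul_smul, hadd, mul_smul, D.A_smul_Pt ha hu hu0]
  exact D.psi_smul hw1P hu' hu'0 (D.W'.add_mem hdy hy) (by
    rw [hn, map_add, h1, map_smul, D.hA w1]; simp)

theorem smul_move {w y y' : V} (hw : D.InP w) (hy : y ∈ D.W') (hy' : y' ∈ D.W') (a : F) :
    sg D.hA w y' 0 • (a • w + y) = (a + B y' y) • w + y := by
  rw [sg_smul D.hA (hw.2 _ hy')]
  simp only [map_add, map_smul, smul_eq_mul, hw.swap D hy', D.hA w, hw.2 _ hy, mul_zero, zero_add, zero_smul,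
    add_zero, zero_mul]
  module

theorem ok_R_near {w y y' : V} (hw : D.InP w) (hw0 : w ≠ 0) (hy : y ∈ D.W') (hy' : y' ∈ D.W') {a : F}
    (ha : a ≠ 0) (hsum : a + B y' y ≠ 0) : D.OkAt (D.R w y') (a • w + y) := by
  set w2 := D.dual w
  have hw2 : D.InP w2 := D.dual_inP w
  have h21 : B w2 w = 1 := D.dual_pair hw hw0
  set w1 := w - w2 with hw1
  have hw1P : D.InP w1 := D.inP_sub hw hw2
  obtain ⟨T, hT, hπT, hadd⟩ := D.R_add_left hw1P hw2 hy'
  rw [show w1 + w2 = w by simp [hw1]] at hadd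
  rw [eq_mul_inv_of_mul_eq hadd.symm]
  have hawP := D.inP_smul hw a
  have haw0 : a • w ≠ 0 := smul_ne_zero ha hw0
  refine OkAt.mul D (D.ok_K_nz (inv_mem hT) hawP haw0 hy) ?_
  have hy2 : π T⁻¹ • y ∈ D.W' := D.piK_W' (inv_mem hT) hy
  have hinv : B y' (π T⁻¹ • y) = B y' y := by
    have hTy' : π T⁻¹ • y' = y' := by
      rw [map_inv, inv_smul_eq_iff, hπT, sg_fix D.hA (D.hA _) (by simp)]
    conv_lhs => rw [← hTy', form_smul]
  rw [show π T⁻¹ • (a • w + y) = a • w + π T⁻¹ • y by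
    rw [smul_eq_apply, map_add, ← smul_eq_apply, ← smul_eq_apply, D.piK_inP (inv_mem hT) hawP]]
  generalize π T⁻¹ • y = y2 at hy2 hinv
  refine OkAt.mul D (D.ok_R_far hw2 hawP hy2 hy' (by simp [h21, ha])) ?_
  rw [D.pi_R hw2 hy', sg_smul D.hA (hw2.2 _ hy')]
  simp only [map_add, map_smul, smul_eq_mul, hw.swap D hy', h21, hw2.2 _ hy2, hinv, mul_zero, zero_add, mul_one,
    zero_mul, zero_smul, add_zero]
  rw [show a • w + y2 + B y' y • w2 + a • y' = (a • w + B y' y • w2) + (y2 + a • y') by abel]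
  refine D.ok_R_far hw1P (D.inP_add hawP (D.inP_smul hw2 _)) (D.W'.add_mem hy2 (D.W'.smul_mem a hy')) hy' ?_
  simp only [hw1, map_add, map_sub, map_smul, LinearMap.sub_apply, smul_eq_mul, D.hA w, D.hA w2, h21,
    swap_eq D.hA w2 w]
  intro h
  exact hsum (by linear_combination -h)

theorem pure_indep_x {w y x x' : V} (hw : D.InP w) (hw0 : w ≠ 0) (hy : y ∈ D.W') (hx : x ∈ D.W')
    (hx' : x' ∈ D.W') (h : B x y ≠ 0) (h' : B x' y ≠ 0) :
    D.R w (-x) • D.Ψ (B x y • w + y) = D.R w (-x') • D.Ψ (B x' y • w + y) := by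
  obtain ⟨a, ha, hπa, hadd⟩ := D.R_add_right hw hx' (D.W'.neg_mem hx)
  have hP := D.inP_smul hw (B x y)
  have hok : D.OkAt (D.R w (x' + -x) * a) (B x y • w + y) := by
    refine OkAt.mul D (D.ok_A_nz ha hP (smul_ne_zero h hw0) hy) ?_
    rw [hπa, sg_fix D.hA (by simp [D.hA w, hw.2 _ hy]) (by simp)]
    exact D.ok_R_near hw hw0 hy (D.W'.add_mem hx' (D.W'.neg_mem hx)) h (by simpa using h')
  rw [← hadd, OkAt, map_mul, D.pi_R hw hx', D.pi_R hw (D.W'.neg_mem hx), mul_smul, mul_smul,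
    D.smul_move hw hy (D.W'.neg_mem hx), show B x y + B (-x) y = 0 by simp, D.smul_move hw hy hx', zero_add] at hok
  rw [← hok, ← mul_smul (D.R w (-x'))]
  have hinv : D.R w (-x') * D.R w x' = 1 := by
    rw [mul_eq_one_comm]; exact D.R_mul_R_neg hw hx'
  rw [hinv, one_smul]

theorem pure_indep_w {w w' y x : V} (hw : D.InP w) (hw' : D.InP w') (hy : y ∈ D.W') (hx : x ∈ D.W')
    (h : B x y ≠ 0) (hne : B w w' ≠ 0) :
    D.R w (-x) • D.Ψ (B x y • w + y) = D.R w' (-x) • D.Ψ (B x y • w' + y) := by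
  set a := B x y with ha
  have hw0 : w ≠ 0 := fun h0 => hne (by simp [h0])
  obtain ⟨T, hT, -, hadd⟩ := D.R_add_left hw' (D.inP_smul hw (-1)) hx
  rw [neg_one_smul, ← D.R_neg hw hx] at hadd
  have hP := D.inP_smul hw a
  have hok : D.OkAt (D.R (w' + -w) x * T) (a • w + y) := by
    refine OkAt.mul D (D.ok_K_nz hT hP (smul_ne_zero h hw0) hy) ?_
    rw [show π T • (a • w + y) = a • w + π T • y by
      rw [smul_eq_apply, map_add, ← smul_eq_apply, ← smul_eq_apply, D.piK_inP hT hP]]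
    refine D.ok_R_far (D.inP_add hw' (by simpa using D.inP_smul hw (-1))) hP (D.piK_W' hT hy) hx ?_
    rw [swap_eq D.hA]
    simp [D.hA w, h, hne]
  rw [← hadd, OkAt, map_mul, D.pi_R hw' hx, D.pi_R hw (D.W'.neg_mem hx), mul_smul, mul_smul,
    D.smul_move hw hy (D.W'.neg_mem hx), show a + B (-x) y = 0 by simp [ha], zero_smul, zero_add] at hok
  have h2 : sg D.hA w' x 0 • y = a • w' + y := by
    have := D.smul_move hw' hy hx 0
    simpa using this
  rw [h2] at hok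
  rw [← hok, ← mul_smul (D.R w' (-x))]
  have hinv : D.R w' (-x) * D.R w' x = 1 := by
    rw [mul_eq_one_comm]; exact D.R_mul_R_neg hw' hx
  rw [hinv, one_smul]

theorem pure_eq {w y x : V} (hw : D.InP w) (hw0 : w ≠ 0) (hy : y ∈ D.W') (hx : x ∈ D.W') (h : B x y ≠ 0) :
    D.R w (-x) • D.Ψ (B x y • w + y) = D.Ψ y := by
  have hy0 : y ≠ 0 := fun h0 => h (by simp [h0])
  obtain ⟨hxo, hne⟩ := D.xOf_spec hy hy0
  conv_rhs => rw [Ψ, if_pos (D.pl_of_W' hy),
    ← D.psi_add (D.inP_smul D.inP_e _) (smul_ne_zero hne D.e_ne) hy]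
  rw [← D.pure_indep_x D.inP_e D.e_ne hy hx hxo h hne]
  by_cases hew : B w D.e = 0
  · obtain ⟨c, hc⟩ := D.exists_coeff hw hw0 D.inP_e hew
    have hc0 : c ≠ 0 := fun h0 => D.e_ne (by rw [hc, h0, zero_smul])
    have hcx : B ((c⁻¹) • x) y ≠ 0 := by simp [h, hc0]
    rw [D.pure_indep_x D.inP_e D.e_ne hy hx (D.W'.smul_mem c⁻¹ hx) h hcx, hc,
      D.R_smul_left hw (D.W'.neg_mem (D.W'.smul_mem c⁻¹ hx))]
    simp only [map_smul, LinearMap.smul_apply, smul_eq_mul, smul_smul, smul_neg]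
    rw [mul_inv_cancel₀ hc0, one_smul, show c⁻¹ * B x y * c = B x y by field_simp]
  · exact D.pure_indep_w hw D.inP_e hy hx h hew

theorem ok_A_pure {a : K} (ha : a ∈ D.A) {y : V} (hy : y ∈ D.W') (hy0 : y ≠ 0) : D.OkAt a y := by
  obtain ⟨hx, hne⟩ := D.xOf_spec hy hy0
  set x := D.xOf y
  have hP := D.inP_smul D.inP_e (B x y)
  have h := D.ok_A_nz ha hP (smul_ne_zero hne D.e_ne) hy
  rw [OkAt] at h
  rw [OkAt, D.piA_W' ha hy, ← D.pure_eq D.inP_e D.e_ne hy hx hne, ← mul_smul,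
    show a * D.R D.e (-x) = a * D.R D.e (-x) * a⁻¹ * a by group, mul_smul, h,
    D.R_conj_A ha D.inP_e (D.W'.neg_mem hx), D.pure_eq D.inP_e D.e_ne hy hx hne,
    show π a • (B x y • D.e + y) = B x y • (π a • D.e) + π a • y by simp [smul_eq_apply, map_add, map_smul],
    D.piA_W' ha hy]
  exact D.pure_eq (D.piA_inP ha D.inP_e) (by rw [Ne, smul_eq_zero_iff_eq]; exact D.e_ne) hy hx hne

theorem ok_K_pure {k : K} (hk : k ∈ D.K') {y : V} (hy : y ∈ D.W') (hy0 : y ≠ 0) : D.OkAt k y := by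
  obtain ⟨hx, hne⟩ := D.xOf_spec hy hy0
  set x := D.xOf y
  have hP := D.inP_smul D.inP_e (B x y)
  have h := D.ok_K_nz hk hP (smul_ne_zero hne D.e_ne) hy
  rw [OkAt] at h
  rw [OkAt, ← D.pure_eq D.inP_e D.e_ne hy hx hne, ← mul_smul,
    show k * D.R D.e (-x) = k * D.R D.e (-x) * k⁻¹ * k by group, mul_smul, h,
    D.R_conj_K hk _ (D.W'.neg_mem hx),
    show π k • (B x y • D.e + y) = B (π k • x) (π k • y) • D.e + π k • y by
      rw [form_smul, smul_eq_apply, map_add, ← smul_eq_apply, ← smul_eq_apply, D.piK_inP hk hP],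
    show π k • (-x) = -(π k • x) by simp [smul_eq_apply]]
  exact D.pure_eq D.inP_e D.e_ne (D.piK_W' hk hy) (D.piK_W' hk hx) (by rwa [form_smul])

theorem ok_rho_pure {y y' : V} (hy : y ∈ D.W') (hy0 : y ≠ 0) (hy' : y' ∈ D.W') : D.OkAt (D.R D.e y') y := by
  have key : ∀ x ∈ D.W', B x y ≠ 0 → D.OkAt (D.R D.e x) y := fun x hx h => by
    have h2 := D.smul_move D.inP_e hy hx 0
    rw [zero_smul, zero_add, zero_add] at h2
    rw [OkAt, D.pi_R D.inP_e hx, h2, ← D.pure_eq D.inP_e D.e_ne hy hx h, ← mul_smul,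
      D.R_mul_R_neg D.inP_e hx, one_smul]
  by_cases h : B y' y = 0
  swap
  · exact key y' hy' h
  obtain ⟨hx, hne⟩ := D.xOf_spec hy hy0
  set x := D.xOf y
  have hd := D.W'.sub_mem hy' hx
  obtain ⟨a, ha, hπa, hadd⟩ := D.R_add_right D.inP_e hd hx
  rw [sub_add_cancel] at hadd
  rw [eq_mul_inv_of_mul_eq hadd.symm]
  refine OkAt.mul D (D.ok_A_pure (inv_mem ha) hy hy0) ?_
  rw [D.piA_W' (inv_mem ha) hy]
  refine OkAt.mul D (key x hx hne) ?_
  have h2 := D.smul_move D.inP_e hy hx 0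
  rw [zero_smul, zero_add, zero_add] at h2
  have h3 := D.smul_move D.inP_e hy hd (B x y)
  rw [show B x y + B (y' - x) y = 0 by simp [h], zero_smul, zero_add] at h3
  rw [OkAt, D.pi_R D.inP_e hx, h2, D.pi_R D.inP_e hd, h3,
    show y' - x = -(x - y') by abel]
  have hxy : B (x - y') y = B x y := by simp [h]
  conv_lhs => rw [← hxy]
  exact D.pure_eq D.inP_e D.e_ne hy (D.W'.sub_mem hx hy') (by rwa [hxy])

theorem ok_rho {v y' : V} (hv : v ∈ D.W) (hv0 : v ≠ 0) (hy' : y' ∈ D.W') : D.OkAt (D.ρ y') v := by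
  rw [← D.R_e hy']
  have hy := D.sub_pl_mem hv
  have hu := D.inP_pl v
  have hdec : v = D.pl v + (v - D.pl v) := by abel
  by_cases hu0 : D.pl v = 0
  · exact D.ok_rho_pure (by simpa [hu0] using hy) hv0 hy'
  by_cases heu : B D.e (D.pl v) = 0
  swap
  · rw [hdec]; exact D.ok_R_far D.inP_e hu hy hy' heu
  obtain ⟨c, hc⟩ := D.exists_coeff D.inP_e D.e_ne hu heu
  have hc0 : c ≠ 0 := fun h => hu0 (by rw [hc, h, zero_smul])
  rw [hdec]
  generalize v - D.pl v = y at hy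
  rw [hc]
  by_cases hs : c + B y' y = 0
  swap
  · exact D.ok_R_near D.inP_e D.e_ne hy hy' hc0 hs
  have h3 := D.smul_move D.inP_e hy hy' c
  rw [hs, zero_smul, zero_add] at h3
  rw [OkAt, D.pi_R D.inP_e hy', h3]
  have hcy : B (-y') y = c := by
    rw [map_neg, LinearMap.neg_apply]; linear_combination -hs
  have := D.pure_eq D.inP_e D.e_ne hy (D.W'.neg_mem hy') (by rwa [hcy])
  rwa [neg_neg, hcy] at this

/-- The elements commuting with `Ψ`. -/
def okGroup : Subgroup K where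
  carrier := {γ | (∀ c ∈ D.C, π γ • c = c) ∧ ∀ v ∈ D.W, v ≠ 0 → D.OkAt γ v}
  one_mem' := ⟨fun c _ => by simp, fun v _ _ => by simp [OkAt]⟩
  mul_mem' := @fun a b ha hb => ⟨fun c hc => by rw [map_mul, mul_smul, hb.1 c hc, ha.1 c hc],
    fun v hv hv0 => OkAt.mul D (hb.2 v hv hv0)
      (ha.2 _ (D.smul_W hb.1 hv) (by rw [Ne, smul_eq_zero_iff_eq]; exact hv0))⟩
  inv_mem' := @fun a ha => by
    have hC : ∀ c ∈ D.C, π a⁻¹ • c = c := fun c hc => by rw [map_inv, inv_smul_eq_iff, ha.1 c hc]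
    refine ⟨hC, fun v hv hv0 => ?_⟩
    have h := ha.2 _ (D.smul_W hC hv) (by rw [Ne, smul_eq_zero_iff_eq]; exact hv0)
    rw [OkAt] at h ⊢
    rw [inv_smul_eq_iff, h, map_inv, smul_inv_smul]

theorem A_le_ok : D.A ≤ D.okGroup := fun a ha => by
  refine ⟨D.piA_C ha, fun v hv hv0 => ?_⟩
  by_cases hu0 : D.pl v = 0
  · exact D.ok_A_pure ha (by simpa [hu0] using D.sub_pl_mem hv) hv0
  · rw [show v = D.pl v + (v - D.pl v) by abel]
    exact D.ok_A_nz ha (D.inP_pl v) hu0 (D.sub_pl_mem hv)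

theorem K_le_ok : D.K' ≤ D.okGroup := fun k hk => by
  refine ⟨D.piK_C hk, fun v hv hv0 => ?_⟩
  by_cases hu0 : D.pl v = 0
  · exact D.ok_K_pure hk (by simpa [hu0] using D.sub_pl_mem hv) hv0
  · rw [show v = D.pl v + (v - D.pl v) by abel]
    exact D.ok_K_nz hk (D.inP_pl v) hu0 (D.sub_pl_mem hv)

theorem P1_le_ok : D.P1 ≤ D.okGroup := by
  rintro _ ⟨t, y, hy, k, hk, rfl⟩
  refine mul_mem (mul_mem (D.A_le_ok (D.z_mem_A t)) ⟨fun c hc => ?_, fun v hv hv0 => D.ok_rho hv hv0 hy⟩)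
    (D.K_le_ok hk)
  rw [D.pi_rho hy]
  exact sg_fix D.hA (D.B_C D.he hc) (D.B_C (D.W'_le hy) hc) 0

theorem tot_le_ok : D.tot ≤ D.okGroup :=
  sup_le (sup_le D.A_le_ok (D.M_le_P1.trans D.P1_le_ok)) D.K_le_ok

theorem psi_e : D.Ψ D.e = QuotientGroup.mk 1 := by
  have h := D.psi_smul D.inP_f D.inP_e D.e_ne D.W'.zero_mem D.hfe
  rw [add_zero, R_right_zero, one_smul] at h
  rw [← h]
  have := D.Pt_eq (one_mem D.A)
  simpa using this

theorem injOn_tot : Set.InjOn π D.tot := by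
  intro a ha b hb hab
  have hmem : a⁻¹ * b ∈ D.tot := mul_mem (inv_mem ha) hb
  have h : π (a⁻¹ * b) = 1 := by rw [map_mul, map_inv, hab, inv_mul_cancel]
  have hfix := (D.tot_le_ok hmem).2 D.e D.he D.e_ne
  rw [OkAt, h, one_smul, D.psi_e] at hfix
  change QuotientGroup.mk (a⁻¹ * b * 1) = QuotientGroup.mk 1 at hfix
  rw [mul_one, eq_comm, QuotientGroup.eq, inv_one, one_mul] at hfix
  exact inv_mul_eq_one.1 (D.injOn_P1 hfix (one_mem _) (by rw [h, map_one]))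

theorem exists_rep {v : V} (hv : v ∈ D.W) (hv0 : v ≠ 0) : ∃ γ ∈ D.tot, π γ • D.e = v := by
  have key : ∀ u y, D.InP u → u ≠ 0 → y ∈ D.W' → ∃ γ ∈ D.tot, π γ • D.e = u + y := fun u y hu hu0 hy => by
    refine ⟨D.R (D.dual u) y * D.aOf u, mul_mem (D.R_mem_tot hy) (D.A_le_tot (D.aOf_mem u)), ?_⟩
    rw [map_mul, mul_smul, D.aOf_smul hu hu0, D.pi_R (D.dual_inP u) hy, sg_smul D.hA ((D.dual_inP u).2 _ hy),
      D.dual_pair hu hu0, hu.swap D hy]
    simp
  by_cases hu0 : D.pl v = 0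
  · have hy : v ∈ D.W' := by simpa [hu0] using D.sub_pl_mem hv
    obtain ⟨hx, hne⟩ := D.xOf_spec hy hv0
    obtain ⟨γ, hγ, hγe⟩ := key (B (D.xOf v) v • D.e) v (D.inP_smul D.inP_e _) (smul_ne_zero hne D.e_ne) hy
    refine ⟨D.R D.e (-D.xOf v) * γ, mul_mem (D.R_mem_tot (D.W'.neg_mem hx)) hγ, ?_⟩
    rw [map_mul, mul_smul, hγe, D.pi_R D.inP_e (D.W'.neg_mem hx), D.smul_move D.inP_e hy (D.W'.neg_mem hx)]
    simp
  · obtain ⟨γ, hγ, hγe⟩ := key _ _ (D.inP_pl v) hu0 (D.sub_pl_mem hv)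
    exact ⟨γ, hγ, hγe.trans (by abel)⟩

theorem map_tot : D.tot.map π = fixing B D.C := by
  refine le_antisymm ?_ fun g hg => ?_
  · rintro _ ⟨γ, hγ, rfl⟩
    exact (D.tot_le_ok hγ).1
  obtain ⟨γ, hγ, hγe⟩ := D.exists_rep (D.smul_W hg D.he) (by rw [Ne, smul_eq_zero_iff_eq]; exact D.e_ne)
  have hγC := (D.tot_le_ok hγ).1
  set g1 := (π γ)⁻¹ * g with hg1
  have hC1 : ∀ c ∈ D.C, g1 • c = c := fun c hc => by rw [hg1, mul_smul, hg c hc, inv_smul_eq_iff, hγC c hc]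
  have he1 : g1 • D.e = D.e := by rw [hg1, mul_smul, inv_smul_eq_iff, hγe]
  set v := g1 • D.f with hv
  have hvW : v ∈ D.W := D.smul_W hC1 D.hf
  have hev : B D.e v = -1 := by
    conv_lhs => rw [hv, ← he1, form_smul]
    exact D.B_ef
  set y := v - D.pl v with hy_def
  have hy : y ∈ D.W' := D.sub_pl_mem hvW
  set t := -B D.f v with ht
  set p := D.z t * D.ρ (-y) with hp
  have hpt : p ∈ D.tot := mul_mem (D.M_le_tot (D.z_mem_M t)) (D.rho_mem_tot (D.W'.neg_mem hy))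
  have hπp : π p = sg D.hA D.e (-y) t := by
    rw [hp, map_mul, D.pi_z, D.pi_rho (D.W'.neg_mem hy),
      sg_add D.hA (by simp : B D.e 0 = 0) (D.B_e (D.W'.neg_mem hy))]
    simp
  have hpC := (D.tot_le_ok hpt).1
  set g2 := (π p)⁻¹ * g1 with hg2
  have hg2K : g2 ∈ D.K'.map π := by
    rw [D.imK]
    rintro c (hc | rfl | rfl)
    · rw [hg2, mul_smul, hC1 c hc, inv_smul_eq_iff, hpC c hc]
    · rw [hg2, mul_smul, he1, inv_smul_eq_iff, hπp]
      exact (sg_fix D.hA (D.hA _) (D.B_e_swap (D.W'.neg_mem hy)) t).symm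
    · rw [hg2, mul_smul, ← hv, inv_smul_eq_iff, hπp, sg_smul D.hA (D.B_e (D.W'.neg_mem hy)), D.B_ef,
        D.B_f_swap (D.W'.neg_mem hy)]
      have hd : v = D.pl v + y := by rw [hy_def]; abel
      have hpl : D.pl v = B D.f v • D.e + D.f := by rw [pl, hev]; module
      conv_lhs => rw [hd, hpl]
      rw [ht]
      simp only [neg_one_smul, neg_neg, zero_smul, add_zero, neg_mul, mul_neg, mul_one]
      abel
  obtain ⟨k, hk, hπk⟩ := hg2K
  refine ⟨γ * p * k, mul_mem (mul_mem hγ hpt) (D.K_le_tot hk), ?_⟩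
  rw [map_mul, map_mul, hπk, hg2, hg1]
  group

end Data

end Cfsg.Agent.SympAmalgam
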