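/-
Area SympAmalgam: coordinates of `sympForm` and the subgroups of the symplectic group fixing basis vectors.
-/
import Cfsg.Agent.Lib.SympAmalgam.Coset
import Cfsg.Agent.Lib.ClassicalSimple.SympMatrix

set_option autoImplicit false

namespace Cfsg.Agent.SympAmalgam

open Cfsg.Agent.ClassicalSimple
open scoped Matrix

variable {F : Type*} [Field F] {n : ℕ}

/-- The basis vectors of the first half. -/
def be (F : Type*) [Field F] (k : Fin n) : Fin n ⊕ Fin n → F := Pi.single (Sum.inl k) 1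
/-- The basis vectors of the second half. -/
def bf (F : Type*) [Field F] (k : Fin n) : Fin n ⊕ Fin n → F := Pi.single (Sum.inr k) 1

theorem be_inl (k l : Fin n) : be F k (Sum.inl l) = if l = k then 1 else 0 := by
  simp [be, Pi.single_apply]

theorem be_inr (k l : Fin n) : be F k (Sum.inr l) = 0 := by simp [be]

theorem bf_inl (k l : Fin n) : bf F k (Sum.inl l) = 0 := by simp [bf]

theorem bf_inr (k l : Fin n) : bf F k (Sum.inr l) = if l = k then 1 else 0 := by
  simp [bf, Pi.single_apply]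

theorem alt : (sympBilin n F).IsAlt := sympBilin_isAlt

theorem B_be (v : Fin n ⊕ Fin n → F) (k : Fin n) : sympBilin n F v (be F k) = v (Sum.inr k) := by
  rw [sympBilin_apply, sympForm, be, Matrix.mulVec_single_one]
  simp [dotProduct, Fintype.sum_sum_type, Matrix.J, Matrix.one_apply]

theorem B_bf (v : Fin n ⊕ Fin n → F) (k : Fin n) : sympBilin n F v (bf F k) = -v (Sum.inl k) := by
  rw [sympBilin_apply, sympForm, bf, Matrix.mulVec_single_one]
  simp [dotProduct, Fintype.sum_sum_type, Matrix.J, Matrix.one_apply]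

theorem B_bf' (v : Fin n ⊕ Fin n → F) (k : Fin n) : sympBilin n F (bf F k) v = v (Sum.inl k) := by
  rw [swap_eq alt v, B_bf, neg_neg]

theorem B_be' (v : Fin n ⊕ Fin n → F) (k : Fin n) : sympBilin n F (be F k) v = -v (Sum.inr k) := by
  rw [swap_eq alt v, B_be]

/-- A linear map fixing the basis vectors supporting `v` fixes `v`. -/
theorem fix_of_support {g : SpB (sympBilin n F)} {v : Fin n ⊕ Fin n → F}
    (he : ∀ k, v (Sum.inl k) ≠ 0 → g • be F k = be F k) (hf : ∀ k, v (Sum.inr k) ≠ 0 → g • bf F k = bf F k) :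
    g • v = v := by
  conv_lhs => rw [← Finset.univ_sum_single v]
  conv_rhs => rw [← Finset.univ_sum_single v]
  rw [smul_eq_apply, map_sum]
  refine Finset.sum_congr rfl fun i _ => ?_
  have h : (Pi.single i (v i) : Fin n ⊕ Fin n → F) = v i • Pi.single i 1 := by
    rw [← Pi.single_smul, smul_eq_mul, mul_one]
  rw [h, map_smul]
  by_cases h0 : v i = 0
  · simp [h0]
  rcases i with k | k
  · exact congrArg (v (Sum.inl k) • ·) (he k h0)
  · exact congrArg (v (Sum.inr k) • ·) (hf k h0)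

theorem ext_basis {g h : SpB (sympBilin n F)} (he : ∀ k : Fin n, g • be F k = h • be F k)
    (hf : ∀ k : Fin n, g • bf F k = h • bf F k) : g = h := by
  have key : h⁻¹ * g = 1 := by
    refine SpB.ext' fun (v : Fin n ⊕ Fin n → F) => ?_
    rw [one_smul]
    exact fix_of_support (fun k _ => by rw [mul_smul, he k, inv_smul_smul])
      (fun k _ => by rw [mul_smul, hf k, inv_smul_smul])
  exact (inv_mul_eq_one.1 key).symm

/-- The basis vectors with index below `r`. -/
noncomputable def below (F : Type*) [Field F] (n r : ℕ) : Set (Fin n ⊕ Fin n → F) :=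
  {c | ∃ k : Fin n, (k : ℕ) < r ∧ (c = be F k ∨ c = bf F k)}

/-- The image of `S j`: the isometries fixing the basis vectors of all other indices. -/
noncomputable def sImg (F : Type*) [Field F] (j : Fin n) : Subgroup (SpB (sympBilin n F)) :=
  fixing _ {c | ∃ k : Fin n, k ≠ j ∧ (c = be F k ∨ c = bf F k)}

/-- The image of `M i`. -/
noncomputable def mImg (F : Type*) [Field F] (i : Fin n) : Subgroup (SpB (sympBilin n F)) :=
  fixing _ {c | ∃ k : Fin n, c = be F k ∨ ((k : ℕ) ≠ i ∧ (k : ℕ) ≠ (i : ℕ) + 1 ∧ c = bf F k)}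

theorem mem_fixing_below {r : ℕ} {g : SpB (sympBilin n F)} :
    g ∈ fixing _ (below F n r) ↔ ∀ k : Fin n, (k : ℕ) < r → g • be F k = be F k ∧ g • bf F k = bf F k :=
  ⟨fun h k hk => ⟨h _ ⟨k, hk, Or.inl rfl⟩, h _ ⟨k, hk, Or.inr rfl⟩⟩,
    fun h c ⟨k, hk, hc⟩ => by rcases hc with rfl | rfl; exacts [(h k hk).1, (h k hk).2]⟩

theorem mem_sImg {j : Fin n} {g : SpB (sympBilin n F)} :
    g ∈ sImg F j ↔ ∀ k : Fin n, k ≠ j → g • be F k = be F k ∧ g • bf F k = bf F k :=
  ⟨fun h k hk => ⟨h _ ⟨k, hk, Or.inl rfl⟩, h _ ⟨k, hk, Or.inr rfl⟩⟩,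
    fun h c ⟨k, hk, hc⟩ => by rcases hc with rfl | rfl; exacts [(h k hk).1, (h k hk).2]⟩

theorem mem_mImg {i : Fin n} {g : SpB (sympBilin n F)} :
    g ∈ mImg F i ↔ (∀ k : Fin n, g • be F k = be F k) ∧
      ∀ k : Fin n, (k : ℕ) ≠ i → (k : ℕ) ≠ (i : ℕ) + 1 → g • bf F k = bf F k :=
  ⟨fun h => ⟨fun k => h _ ⟨k, Or.inl rfl⟩, fun k h1 h2 => h _ ⟨k, Or.inr ⟨h1, h2, rfl⟩⟩⟩,
    fun h c ⟨k, hc⟩ => by rcases hc with rfl | ⟨h1, h2, rfl⟩; exacts [h.1 k, h.2 k h1 h2]⟩

theorem sImg_le {r : ℕ} {j : Fin n} (h : r ≤ (j : ℕ)) : sImg F j ≤ fixing _ (below F n r) := fun g hg =>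
  mem_fixing_below.2 fun k hk => mem_sImg.1 hg k (by intro e; subst e; omega)

theorem mImg_le {r : ℕ} {i : Fin n} (h : r ≤ (i : ℕ)) : mImg F i ≤ fixing _ (below F n r) := fun g hg =>
  mem_fixing_below.2 fun k hk => ⟨(mem_mImg.1 hg).1 k, (mem_mImg.1 hg).2 k (by omega) (by omega)⟩

/-- Elements fixing the pair of index `j` commute with those fixing all the other pairs. -/
theorem commute_sImg {j : Fin n} {g h : SpB (sympBilin n F)} (hg : g ∈ sImg F j)
    (he : h • be F j = be F j) (hf : h • bf F j = bf F j) : Commute g h := by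
  have plane : ∀ v : Fin n ⊕ Fin n → F, (∀ k, k ≠ j → v (Sum.inl k) = 0 ∧ v (Sum.inr k) = 0) → h • v = v := fun v hv =>
    fix_of_support (fun k hk => by by_cases e : k = j; exacts [e ▸ he, absurd (hv k e).1 hk])
      (fun k hk => by by_cases e : k = j; exacts [e ▸ hf, absurd (hv k e).2 hk])
  have perp : ∀ v : Fin n ⊕ Fin n → F, v (Sum.inl j) = 0 → v (Sum.inr j) = 0 → g • v = v := fun v h1 h2 =>
    fix_of_support (fun k hk => (mem_sImg.1 hg k (by rintro rfl; exact hk h1)).1)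
      (fun k hk => (mem_sImg.1 hg k (by rintro rfl; exact hk h2)).2)
  have gplane : ∀ v : Fin n ⊕ Fin n → F, (∀ k, k ≠ j → v (Sum.inl k) = 0 ∧ v (Sum.inr k) = 0) →
      ∀ k, k ≠ j → (g • v) (Sum.inl k) = 0 ∧ (g • v) (Sum.inr k) = 0 := fun v hv k hk => by
    constructor
    · rw [← neg_eq_zero, ← B_bf (g • v) k, ← (mem_sImg.1 hg k hk).2, form_smul, B_bf, (hv k hk).1, neg_zero]
    · rw [← B_be (g • v) k, ← (mem_sImg.1 hg k hk).1, form_smul, B_be, (hv k hk).2]
  have hperp : ∀ v : Fin n ⊕ Fin n → F, v (Sum.inl j) = 0 → v (Sum.inr j) = 0 → (h • v) (Sum.inl j) = 0 ∧ (h • v) (Sum.inr j) = 0 :=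
    fun v h1 h2 => by
      constructor
      · rw [← neg_eq_zero, ← B_bf (h • v) j, ← hf, form_smul, B_bf, h1, neg_zero]
      · rw [← B_be (h • v) j, ← he, form_smul, B_be, h2]
  have key : ∀ v : Fin n ⊕ Fin n → F, ((∀ k, k ≠ j → v (Sum.inl k) = 0 ∧ v (Sum.inr k) = 0) ∨
      (v (Sum.inl j) = 0 ∧ v (Sum.inr j) = 0)) → (g * h) • v = (h * g) • v := by
    rintro v (hv | ⟨h1, h2⟩)
    · rw [mul_smul, mul_smul, plane v hv, plane _ (gplane v hv)]
    · rw [mul_smul, mul_smul, perp v h1 h2, perp _ (hperp v h1 h2).1 (hperp v h1 h2).2]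
  refine ext_basis (fun k => key _ ?_) (fun k => key _ ?_) <;> by_cases e : k = j
  · exact Or.inl fun l hl => by simp [be_inl, be_inr, e, hl]
  · exact Or.inr (by simp [be_inl, be_inr, Ne.symm e])
  · exact Or.inl fun l hl => by simp [bf_inl, bf_inr, e, hl]
  · exact Or.inr (by simp [bf_inl, bf_inr, Ne.symm e])

theorem sub_mem_E {i : Fin n} {g : SpB (sympBilin n F)} (hg : g ∈ mImg F i) (v : Fin n ⊕ Fin n → F) (k : Fin n) :
    (g • v - v) (Sum.inr k) = 0 := by
  rw [← B_be (g • v - v) k, map_sub, LinearMap.sub_apply]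
  conv_lhs => arg 1; rw [← (mem_mImg.1 hg).1 k, form_smul]
  rw [sub_self]

theorem commute_mImg {i i' : Fin n} {g h : SpB (sympBilin n F)} (hg : g ∈ mImg F i) (hh : h ∈ mImg F i') :
    Commute g h := by
  refine SpB.ext' fun v => ?_
  have h1 : g • (h • v - v) = h • v - v :=
    fix_of_support (fun k _ => (mem_mImg.1 hg).1 k) (fun k hk => absurd (sub_mem_E hh v k) hk)
  have h2 : h • (g • v - v) = g • v - v :=
    fix_of_support (fun k _ => (mem_mImg.1 hh).1 k) (fun k hk => absurd (sub_mem_E hg v k) hk)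
  simp only [smul_eq_apply, map_sub] at h1 h2
  rw [mul_smul, mul_smul]
  simp only [smul_eq_apply]
  linear_combination (norm := module) h1 - h2

/-- The orthogonal of `below r`. -/
noncomputable def wSub (F : Type*) [Field F] (n r : ℕ) : Submodule F (Fin n ⊕ Fin n → F) where
  carrier := {v | ∀ c ∈ below F n r, sympBilin n F v c = 0}
  zero_mem' c _ := by simp
  add_mem' ha hb c hc := by simp [ha c hc, hb c hc]
  smul_mem' a v hv c hc := by simp [hv c hc]

theorem mem_wSub {r : ℕ} {v : Fin n ⊕ Fin n → F} :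
    v ∈ wSub F n r ↔ ∀ k : Fin n, (k : ℕ) < r → v (Sum.inl k) = 0 ∧ v (Sum.inr k) = 0 := by
  constructor
  · intro h k hk
    have h1 := h _ ⟨k, hk, Or.inl rfl⟩
    have h2 := h _ ⟨k, hk, Or.inr rfl⟩
    rw [B_be] at h1
    rw [B_bf, neg_eq_zero] at h2
    exact ⟨h2, h1⟩
  · rintro h c ⟨k, hk, rfl | rfl⟩
    · rw [B_be, (h k hk).2]
    · rw [B_bf, (h k hk).1, neg_zero]

theorem be_mem_wSub {r : ℕ} {k : Fin n} (h : r ≤ (k : ℕ)) : be F k ∈ wSub F n r :=
  mem_wSub.2 fun l hl => by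
    have : l ≠ k := by intro e; subst e; omega
    simp [be_inl, be_inr, this]

theorem bf_mem_wSub {r : ℕ} {k : Fin n} (h : r ≤ (k : ℕ)) : bf F k ∈ wSub F n r :=
  mem_wSub.2 fun l hl => by
    have : l ≠ k := by intro e; subst e; omega
    simp [bf_inl, bf_inr, this]

theorem wSub_nd {r : ℕ} (v : Fin n ⊕ Fin n → F) (hv : v ∈ wSub F n r) (h0 : v ≠ 0) :
    ∃ x ∈ wSub F n r, sympBilin n F v x ≠ 0 := by
  obtain ⟨i, hi⟩ := Function.ne_iff.1 h0
  rcases i with k | k
  · refine ⟨bf F k, bf_mem_wSub ?_, by rw [B_bf, neg_ne_zero]; exact hi⟩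
    by_contra h
    exact hi ((mem_wSub.1 hv k (by omega)).1)
  · refine ⟨be F k, be_mem_wSub ?_, by rw [B_be]; exact hi⟩
    by_contra h
    exact hi ((mem_wSub.1 hv k (by omega)).2)

theorem wSub_span {r : ℕ} (g : SpB (sympBilin n F)) (hC : ∀ c ∈ below F n r, g • c = c)
    (hW : ∀ v ∈ wSub F n r, g • v = v) : g = 1 := by
  refine ext_basis (fun k => ?_) (fun k => ?_) <;> rw [one_smul] <;> by_cases h : (k : ℕ) < r
  exacts [hC _ ⟨k, h, Or.inl rfl⟩, hW _ (be_mem_wSub (by omega)), hC _ ⟨k, h, Or.inr rfl⟩, hW _ (bf_mem_wSub (by omega))]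

theorem mImg_le_product {p q : Fin n} (hq : (q : ℕ) = (p : ℕ) + 1) {g : SpB (sympBilin n F)} (hg : g ∈ mImg F p) :
    ∃ c t d : F, g = sg alt (be F p) (c • be F q) t * sg alt (be F q) 0 d := by
  obtain ⟨he, hf⟩ := mem_mImg.1 hg
  have hpq : p ≠ q := fun h => by rw [← h] at hq; omega
  set a := (g • bf F p) (Sum.inl p) with hadef
  set b := (g • bf F p) (Sum.inl q) with hbdef
  set b' := (g • bf F q) (Sum.inl q) with hb'def
  have hdec : ∀ k, g • bf F k = bf F k + (g • bf F k) (Sum.inl p) • be F p + (g • bf F k) (Sum.inl q) • be F q := by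
    intro k
    funext i
    rcases i with l | l
    · by_cases h1 : l = p
      · subst h1; simp [be_inl, be_inr, bf_inl, bf_inr, hpq]
      by_cases h2 : l = q
      · subst h2; simp [be_inl, be_inr, bf_inl, bf_inr, Ne.symm hpq]
      have h3 : g • bf F l = bf F l := hf l (fun e => h1 (Fin.ext e)) (fun e => h2 (Fin.ext (by omega)))
      have h4 : (g • bf F k) (Sum.inl l) = 0 := by
        rw [← neg_eq_zero, ← B_bf (g • bf F k) l, ← h3, form_smul, B_bf]
        simp [bf_inl, bf_inr]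
      simp [be_inl, be_inr, bf_inl, bf_inr, h1, h2, h4]
    · have h4 : (g • bf F k) (Sum.inr l) = bf F k (Sum.inr l) := by rw [← B_be (g • bf F k) l, ← he l, form_smul, B_be]
      simp [be_inl, be_inr, h4]
  have hsymm : (g • bf F q) (Sum.inl p) = b := by
    have h := form_smul g (bf F p) (bf F q)
    rw [hdec p, hdec q] at h
    simp only [map_add, map_smul, LinearMap.add_apply, LinearMap.smul_apply, smul_eq_mul, B_bf, B_be] at h
    simp [be_inl, be_inr, bf_inl, bf_inr, hpq, Ne.symm hpq] at h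
    linear_combination h
  refine ⟨-b, -a, -b', ext_basis (fun k => ?_) (fun k => ?_)⟩
  · rw [he k, mul_smul, sg_fix alt (u := be F q) (c := be F k) (by simp [B_be, be_inl, be_inr]) (by simp),
      sg_fix alt (by simp [B_be, be_inl, be_inr]) (by simp [B_be, be_inl, be_inr])]
  · have h1 : sympBilin n F (be F p) (-b • be F q) = 0 := by simp [B_be, be_inl, be_inr]
    have h2 : sympBilin n F (be F q) 0 = 0 := by simp
    rw [mul_smul, sg_smul _ h2, sg_smul _ h1]
    by_cases e1 : k = p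
    · subst e1
      rw [hdec k, ← hadef, ← hbdef]
      simp [B_bf, be_inl, be_inr, hpq, Ne.symm hpq]
      abel
    by_cases e2 : k = q
    · subst e2
      rw [hdec k, hsymm, ← hb'def]
      simp [B_bf, B_be, be_inl, be_inr, hpq, Ne.symm hpq]
      abel
    rw [hf k (fun e => e1 (Fin.ext e)) (fun e => e2 (Fin.ext (by omega)))]
    simp [B_bf, be_inl, be_inr, e1, e2, Ne.symm e1, Ne.symm e2]

theorem product_mem_mImg {p q : Fin n} (hq : (q : ℕ) = (p : ℕ) + 1) (c t d : F) :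
    sg alt (be F p) (c • be F q) t * sg alt (be F q) 0 d ∈ mImg F p := by
  refine mul_mem (mem_mImg.2 ⟨fun k => ?_, fun k h1 h2 => ?_⟩) (mem_mImg.2 ⟨fun k => ?_, fun k h1 h2 => ?_⟩)
  · exact sg_fix _ (by simp [B_be, be_inl, be_inr]) (by simp [B_be, be_inl, be_inr]) t
  · have e1 : k ≠ p := fun e => h1 (congrArg Fin.val e)
    have e2 : k ≠ q := fun e => h2 (by rw [e]; exact hq)
    exact sg_fix _ (by simp [B_bf, be_inl, be_inr, e1, Ne.symm e1]) (by simp [B_bf, be_inl, be_inr, e2, Ne.symm e2]) t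
  · exact sg_fix _ (by simp [B_be, be_inl, be_inr]) (by simp) d
  · have e2 : k ≠ q := fun e => h2 (by rw [e]; exact hq)
    exact sg_fix _ (by simp [B_bf, be_inl, be_inr, e2, Ne.symm e2]) (by simp) d

end Cfsg.Agent.SympAmalgam
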