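/-
Area SympAmalgam: a homomorphism to `Sp(2n, F)` which is injective on the joins of pairs of the lifted `S j`, `M i`
is injective on the group they generate.
-/
import Cfsg.Agent.Lib.SympAmalgam.Basis

set_option autoImplicit false

namespace Cfsg.Agent.SympAmalgam

open Cfsg.Agent.ClassicalSimple

variable {F : Type*} [Field F] {n : ℕ} {K : Type*} [Group K]

/-- Lifts of the `S j` and `M i` on which `π` is injective in pairs. -/
structure Lifts (n : ℕ) (π : K →* SpB (sympBilin n F)) where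
  S : Fin n → Subgroup K
  M : Fin n → Subgroup K
  imS : ∀ j, (S j).map π = sImg F j
  imM : ∀ i : Fin n, (i : ℕ) + 1 < n → (M i).map π = mImg F i
  injS : ∀ j, Set.InjOn π (S j)
  injSS : ∀ j l, j ≠ l → Set.InjOn π (S j ⊔ S l : Subgroup K)
  injMM : ∀ i i' : Fin n, i ≠ i' → (i : ℕ) + 1 < n → (i' : ℕ) + 1 < n →
    Set.InjOn π (M i ⊔ M i' : Subgroup K)
  injMS : ∀ i j : Fin n, (i : ℕ) + 1 < n → Set.InjOn π (M i ⊔ S j : Subgroup K)

namespace Lifts

variable {π : K →* SpB (sympBilin n F)} (L : Lifts n π)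

/-- The subgroup generated by the lifts with indices at least `r`. -/
def gen (r : ℕ) : Subgroup K :=
  (⨆ (j : Fin n) (_ : r ≤ (j : ℕ)), L.S j) ⊔ ⨆ (i : Fin n) (_ : r ≤ (i : ℕ) ∧ (i : ℕ) + 1 < n), L.M i

theorem S_le_gen {r : ℕ} {j : Fin n} (h : r ≤ (j : ℕ)) : L.S j ≤ L.gen r :=
  le_sup_of_le_left (le_iSup₂_of_le j h le_rfl)

theorem M_le_gen {r : ℕ} {i : Fin n} (h : r ≤ (i : ℕ)) (h' : (i : ℕ) + 1 < n) : L.M i ≤ L.gen r :=
  le_sup_of_le_right (le_iSup₂_of_le i ⟨h, h'⟩ le_rfl)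

theorem gen_le {r : ℕ} {T : Subgroup K} (hS : ∀ j : Fin n, r ≤ (j : ℕ) → L.S j ≤ T)
    (hM : ∀ i : Fin n, r ≤ (i : ℕ) → (i : ℕ) + 1 < n → L.M i ≤ T) : L.gen r ≤ T :=
  sup_le (iSup₂_le hS) (iSup₂_le fun i h => hM i h.1 h.2)

theorem pi_S {j : Fin n} {x : K} (hx : x ∈ L.S j) : π x ∈ sImg F j := L.imS j ▸ ⟨x, hx, rfl⟩

theorem pi_M {i : Fin n} (h : (i : ℕ) + 1 < n) {x : K} (hx : x ∈ L.M i) : π x ∈ mImg F i :=
  L.imM i h ▸ ⟨x, hx, rfl⟩

theorem commute_of {P : Subgroup K} (hP : Set.InjOn π P) {x y : K} (hx : x ∈ P) (hy : y ∈ P)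
    (h : Commute (π x) (π y)) : Commute x y :=
  hP (mul_mem hx hy) (mul_mem hy hx) (by rw [map_mul, map_mul, h.eq])

theorem commute_S_gen {p : Fin n} {a k : K} (ha : a ∈ L.S p) (hk : k ∈ L.gen ((p : ℕ) + 1)) : Commute a k := by
  have : L.gen ((p : ℕ) + 1) ≤ Subgroup.centralizer {a} := by
    refine L.gen_le (fun j hj y hy => ?_) (fun i hi hi' y hy => ?_) <;>
      rw [Subgroup.mem_centralizer_singleton_iff]
    · have hne : p ≠ j := fun e => by rw [← e] at hj; omega
      refine (commute_of (L.injSS p j hne) (Subgroup.mem_sup_left ha) (Subgroup.mem_sup_right hy) ?_).symm.eq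
      exact commute_sImg (L.pi_S ha) ((mem_sImg.1 (L.pi_S hy)) p hne).1 ((mem_sImg.1 (L.pi_S hy)) p hne).2
    · refine (commute_of (L.injMS i p hi') (Subgroup.mem_sup_right ha) (Subgroup.mem_sup_left hy) ?_).symm.eq
      exact commute_sImg (L.pi_S ha) ((mem_mImg.1 (L.pi_M hi' hy)).1 p)
        ((mem_mImg.1 (L.pi_M hi' hy)).2 p (by omega) (by omega))
  exact (Subgroup.mem_centralizer_singleton_iff.1 (this hk)).symm

theorem commute_M_gen {p : Fin n} (hp : (p : ℕ) + 1 < n) {m k : K} (hm : m ∈ L.M p)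
    (hk : k ∈ L.gen ((p : ℕ) + 2)) : Commute m k := by
  have : L.gen ((p : ℕ) + 2) ≤ Subgroup.centralizer {m} := by
    refine L.gen_le (fun j hj y hy => ?_) (fun i hi hi' y hy => ?_) <;>
      rw [Subgroup.mem_centralizer_singleton_iff]
    · refine (commute_of (L.injMS p j hp) (Subgroup.mem_sup_right hy) (Subgroup.mem_sup_left hm) ?_).eq
      exact commute_sImg (L.pi_S hy) ((mem_mImg.1 (L.pi_M hp hm)).1 j)
        ((mem_mImg.1 (L.pi_M hp hm)).2 j (by omega) (by omega))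
    · have hne : p ≠ i := fun e => by rw [← e] at hi; omega
      exact (commute_of (L.injMM p i hne hp hi') (Subgroup.mem_sup_right hy) (Subgroup.mem_sup_left hm)
        (commute_mImg (L.pi_M hi' hy) (L.pi_M hp hm))).eq
  exact (Subgroup.mem_centralizer_singleton_iff.1 (this hk)).symm

/-- The statement proved by downward induction on `r`. -/
def Good (r : ℕ) : Prop :=
  Set.InjOn π (L.gen r) ∧ (L.gen r).map π = fixing _ (below F n r)

theorem good_end {r : ℕ} (hr : n ≤ r) : L.Good r := by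
  have h : L.gen r = ⊥ := le_bot_iff.1 (L.gen_le (fun j hj => absurd j.2 (by omega))
    (fun i hi => absurd i.2 (by omega)))
  rw [Good, h]
  refine ⟨fun x hx y hy _ => ?_, ?_⟩
  · rw [Subgroup.mem_bot.1 hx, Subgroup.mem_bot.1 hy]
  · rw [Subgroup.map_bot, eq_comm, eq_bot_iff]
    intro g hg
    exact Subgroup.mem_bot.2 (ext_basis (fun k => by rw [one_smul]; exact (mem_fixing_below.1 hg k (by omega)).1)
      (fun k => by rw [one_smul]; exact (mem_fixing_below.1 hg k (by omega)).2))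

theorem good_last {r : ℕ} (hr : r + 1 = n) : L.Good r := by
  set p : Fin n := ⟨r, by omega⟩ with hp
  have h : L.gen r = L.S p := by
    refine le_antisymm (L.gen_le (fun j hj => ?_) (fun i hi hi' => absurd hi' (by omega))) (L.S_le_gen le_rfl)
    rw [show j = p from Fin.ext (show (j : ℕ) = r by omega)]
  rw [Good, h, L.imS p]
  refine ⟨L.injS p, le_antisymm (sImg_le le_rfl) fun g hg => ?_⟩
  exact mem_sImg.2 fun k hk => mem_fixing_below.1 hg k (by
    have : (k : ℕ) ≠ r := fun e => hk (Fin.ext e)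
    omega)

theorem stab_commute {p q : Fin n} (hq : (q : ℕ) = (p : ℕ) + 1) (h1 : L.Good ((p : ℕ) + 1))
    (h2 : L.Good ((p : ℕ) + 2)) {k : K} (hk : k ∈ L.gen ((p : ℕ) + 1)) (hfix : π k • be F q = be F q) {m : K}
    (hm : m ∈ L.M p) : Commute k m := by
  have hp : (p : ℕ) + 1 < n := hq ▸ q.2
  have hA := alt (n := n) (F := F)
  set T : Subgroup K := L.gen ((p : ℕ) + 1) ⊓ Subgroup.centralizer (L.M p : Set K) with hT
  suffices π k ∈ T.map π by
    obtain ⟨x, hx, hxk⟩ := this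
    rw [h1.1 hk hx.1 hxk.symm]
    exact (Subgroup.mem_centralizer_iff.1 hx.2 m hm).symm
  have hgen2 : L.gen ((p : ℕ) + 2) ≤ T := le_inf
    (L.gen_le (fun j hj => L.S_le_gen (by omega)) (fun i hi hi' => L.M_le_gen (by omega) hi'))
    (fun y hy => Subgroup.mem_centralizer_iff.2 fun x hx => L.commute_M_gen hp hx hy)
  -- lifts of the transvections of `e_q`
  have hz : ∀ t : F, sg hA (be F q) 0 t ∈ T.map π := fun t => by
    have hS : sg hA (be F q) 0 t ∈ sImg F q := mem_sImg.2 fun k hk =>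
      ⟨sg_fix hA (by simp [B_be, be_inl, be_inr]) (by simp) t,
        sg_fix hA (by simp [B_bf, be_inl, be_inr, hk, Ne.symm hk]) (by simp) t⟩
    have hM : sg hA (be F q) 0 t ∈ mImg F p := by
      have := product_mem_mImg hq (0 : F) 0 t
      simpa [sg_zero] using this
    rw [← L.imS q] at hS
    rw [← L.imM p hp] at hM
    obtain ⟨s, hs, hs'⟩ := hS
    obtain ⟨x, hx, hx'⟩ := hM
    have hsx : x = s := L.injMS p q hp (Subgroup.mem_sup_left hx) (Subgroup.mem_sup_right hs) (hx'.trans hs'.symm)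
    refine ⟨x, ⟨hsx ▸ L.S_le_gen (by omega) hs, Subgroup.mem_centralizer_iff.2 fun y hy => ?_⟩, hx'⟩
    exact (commute_of (L.injMS p q hp) (Subgroup.mem_sup_left hy) (Subgroup.mem_sup_left hx)
      (commute_mImg (L.pi_M hp hy) (L.pi_M hp hx))).eq
  -- lifts of the Siegel elements of `e_q`
  have hsg : ∀ y ∈ wSub F n ((p : ℕ) + 2), sg hA (be F q) y 0 ∈ T.map π := by
    intro y hy
    by_cases h0 : y = 0
    · rw [h0, sg_zero]; exact one_mem _
    obtain ⟨k', hk'⟩ : ∃ k' : Fin n, (k' : ℕ) = (p : ℕ) + 2 := by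
      by_contra h
      simp only [not_exists] at h
      refine h0 (funext fun i => ?_)
      have hn : n ≤ (p : ℕ) + 2 := by
        by_contra h'
        exact h ⟨(p : ℕ) + 2, by omega⟩ rfl
      rcases i with l | l
      exacts [(mem_wSub.1 hy l (by omega)).1, (mem_wSub.1 hy l (by omega)).2]
    have hq1 : (q : ℕ) + 1 < n := by omega
    have hbase : sg hA (be F q) (be F k') 0 ∈ T.map π := by
      have := product_mem_mImg (F := F) (show (k' : ℕ) = (q : ℕ) + 1 by omega) 1 0 0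
      rw [one_smul, sg_zero, mul_one, ← L.imM q hq1] at this
      obtain ⟨x, hx, hx'⟩ := this
      refine ⟨x, ⟨L.M_le_gen (by omega) hq1 hx, Subgroup.mem_centralizer_iff.2 fun y' hy' => ?_⟩, hx'⟩
      exact (commute_of (L.injMM p q (fun e => by rw [← e] at hq; omega) hp hq1) (Subgroup.mem_sup_left hy')
        (Subgroup.mem_sup_right hx) (commute_mImg (L.pi_M hp hy') (L.pi_M hq1 hx))).eq
    obtain ⟨g, hg, hgfix⟩ := exists_move hA (wSub F n ((p : ℕ) + 2)) wSub_nd (be_mem_wSub (k := k') (by omega))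
      (fun h => by simpa [be_inl, be_inr] using congrFun h (Sum.inl k')) hy h0
    have hgC : g ∈ (L.gen ((p : ℕ) + 2)).map π := by
      rw [h2.2]; intro c hc; exact hgfix c fun d hd => hd c hc
    have hgT := Subgroup.map_mono hgen2 hgC
    have hge : g • be F q = be F q := hgfix _ fun d hd => by
      rw [B_be, (mem_wSub.1 hd q (by omega)).2]
    rw [show sg hA (be F q) y 0 = g * sg hA (be F q) (be F k') 0 * g⁻¹ by
      rw [sg_conj hA g (by simp [B_be, be_inl, be_inr]), hge, hg]]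
    exact mul_mem (mul_mem hgT hbase) (inv_mem hgT)
  have hkC : π k ∈ fixing _ (below F n ((p : ℕ) + 1)) := h1.2 ▸ ⟨k, hk, rfl⟩
  set v := π k • bf F q with hv
  have hv1 : v (Sum.inr q) = 1 := by
    rw [hv, ← B_be (π k • bf F q) q, ← hfix, form_smul, B_be]; simp [bf_inl, bf_inr]
  set a := v (Sum.inl q) with ha
  set y := v - bf F q - a • be F q with hy
  have hyW : y ∈ wSub F n ((p : ℕ) + 2) := mem_wSub.2 fun l hl => by
    by_cases e : l = q
    · subst e; simp [hy, ha, be_inl, be_inr, bf_inl, bf_inr, hv1]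
    have hl' : (l : ℕ) < (p : ℕ) + 1 := by
      have : (l : ℕ) ≠ (q : ℕ) := fun e' => e (Fin.ext e')
      omega
    obtain ⟨hle, hlf⟩ := mem_fixing_below.1 hkC l hl'
    have hvl : v (Sum.inl l) = 0 ∧ v (Sum.inr l) = 0 := by
      constructor
      · rw [← neg_eq_zero, hv, ← B_bf (π k • bf F q) l, ← hlf, form_smul, B_bf]; simp [bf_inl, bf_inr]
      · rw [hv, ← B_be (π k • bf F q) l, ← hle, form_smul, B_be]; simp [bf_inl, bf_inr, Ne.symm e, e]
    simp [hy, be_inl, be_inr, bf_inl, bf_inr, e, hvl.1, hvl.2]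
  have hyq := mem_wSub.1 hyW q (by omega)
  have hByq : sympBilin n F (be F q) (-y) = 0 := by simp [B_be', hyq.2]
  set g1 := sg hA (be F q) (-y) 0 * sg hA (be F q) 0 (-a) with hg1
  have hg1T : g1 ∈ T.map π := mul_mem (hsg _ (Submodule.neg_mem _ hyW)) (hz _)
  have hg1' : g1 = sg hA (be F q) (-y) (-a) := by
    rw [hg1, sg_add hA hByq (by simp)]; simp
  have hfix1 : g1 • bf F q = v := by
    have h3 : sympBilin n F (be F q) (bf F q) = -1 := by simp [B_bf, be_inl, be_inr]
    have h4 : sympBilin n F (-y) (bf F q) = 0 := by simp [B_bf, hyq.1]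
    rw [hg1', sg_smul hA hByq, h3, h4, hy]
    simp only [neg_one_smul, zero_smul, add_zero, neg_mul, mul_neg, mul_one, neg_neg, neg_zero, smul_neg]
    abel
  have hfix2 : g1 • be F q = be F q := by
    rw [hg1']; exact sg_fix hA (hA _) (by simp [B_be, hyq.2]) _
  have hfix3 : ∀ l : Fin n, (l : ℕ) < (p : ℕ) + 1 → g1 • be F l = be F l ∧ g1 • bf F l = bf F l := fun l hl => by
    have e : l ≠ q := fun e => by rw [e] at hl; omega
    have hyl := mem_wSub.1 hyW l (by omega)
    rw [hg1']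
    exact ⟨sg_fix hA (by simp [B_be, be_inl, be_inr]) (by simp [B_be, hyl.2]) _,
      sg_fix hA (by simp [B_bf, be_inl, be_inr, e, Ne.symm e]) (by simp [B_bf, hyl.1]) _⟩
  have hrest : g1⁻¹ * π k ∈ T.map π := by
    refine Subgroup.map_mono hgen2 ?_
    rw [h2.2]
    refine mem_fixing_below.2 fun l hl => ?_
    by_cases e : l = q
    · subst e
      exact ⟨by rw [mul_smul, hfix, inv_smul_eq_iff, hfix2], by rw [mul_smul, ← hv, inv_smul_eq_iff, hfix1]⟩
    have hl' : (l : ℕ) < (p : ℕ) + 1 := by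
      have : (l : ℕ) ≠ (q : ℕ) := fun e' => e (Fin.ext e')
      omega
    obtain ⟨hle, hlf⟩ := mem_fixing_below.1 hkC l hl'
    exact ⟨by rw [mul_smul, hle, inv_smul_eq_iff, (hfix3 l hl').1],
      by rw [mul_smul, hlf, inv_smul_eq_iff, (hfix3 l hl').2]⟩
  simpa using mul_mem hg1T hrest

/-- What replaces a third scalar over the field with two elements. -/
def Iso : Prop :=
  ∀ p q r : Fin n, (q : ℕ) = (p : ℕ) + 1 → (r : ℕ) = (q : ℕ) + 1 →
    ∃ k1 ∈ L.gen q, ∃ k2 ∈ L.gen q, π k1 • be F q = be F r ∧ π k2 • be F q = be F q + be F r ∧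
      ∀ m ∈ L.M p, π m = sg alt (be F p) (be F q) 0 → m * (k1 * m * k1⁻¹) = k2 * m * k2⁻¹

theorem iso_step {p q : Fin n} (hq : (q : ℕ) = (p : ℕ) + 1) (h1 : L.Good ((p : ℕ) + 1))
    (h2 : L.Good ((p : ℕ) + 2)) (hI : L.Iso) {b : Fin n ⊕ Fin n → F} (hb : b ∈ wSub F n ((p : ℕ) + 1))
    (heb : sympBilin n F (be F q) b = 0) (hind : ∀ c : F, b ≠ c • be F q) {k1 k2 : K}
    (hk1 : k1 ∈ L.gen ((p : ℕ) + 1)) (hk2 : k2 ∈ L.gen ((p : ℕ) + 1)) (e1 : π k1 • be F q = b)
    (e2 : π k2 • be F q = be F q + b) {m : K} (hm : m ∈ L.M p) (hpm : π m = sg alt (be F p) (be F q) 0) :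
    m * (k1 * m * k1⁻¹) = k2 * m * k2⁻¹ := by
  have hA := alt (n := n) (F := F)
  set a := b (Sum.inl q) with ha
  set y := b - a • be F q with hy
  rw [B_be', neg_eq_zero] at heb
  have hyW : y ∈ wSub F n ((p : ℕ) + 2) := mem_wSub.2 fun l hl => by
    by_cases e : l = q
    · subst e; simp [hy, ha, be_inl, be_inr, heb]
    have hl' : (l : ℕ) < (p : ℕ) + 1 := by
      have : (l : ℕ) ≠ (q : ℕ) := fun e' => e (Fin.ext e')
      omega
    simp [hy, be_inl, be_inr, e, (mem_wSub.1 hb l hl').1, (mem_wSub.1 hb l hl').2]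
  have hy0 : y ≠ 0 := fun h => hind a (sub_eq_zero.1 h)
  obtain ⟨r, hr⟩ : ∃ r : Fin n, (r : ℕ) = (q : ℕ) + 1 := by
    by_contra h
    simp only [not_exists] at h
    refine hy0 (funext fun i => ?_)
    have hn : n ≤ (p : ℕ) + 2 := by
      by_contra h'
      exact h ⟨(q : ℕ) + 1, by omega⟩ rfl
    rcases i with l | l
    exacts [(mem_wSub.1 hyW l (by omega)).1, (mem_wSub.1 hyW l (by omega)).2]
  obtain ⟨g, hg, hgf⟩ := exists_move hA (wSub F n ((p : ℕ) + 2)) wSub_nd (be_mem_wSub (k := r) (by omega))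
    (fun h => by simpa [be_inl, be_inr] using congrFun h (Sum.inl r)) hyW hy0
  obtain ⟨x, hx, hxy⟩ := wSub_nd y hyW hy0
  set y' := (-(a / sympBilin n F y x)) • x with hy'def
  have hy' : y' ∈ wSub F n ((p : ℕ) + 2) := Submodule.smul_mem _ _ hx
  have hyq := mem_wSub.1 hy' q (by omega)
  have hqy : sympBilin n F (be F q) y' = 0 := by rw [B_be', hyq.2, neg_zero]
  have hB : sympBilin n F y' y = a := by
    rw [hy'def, map_smul, LinearMap.smul_apply, smul_eq_mul, Cfsg.Agent.SympAmalgam.swap_eq hA y x]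
    field_simp
  set t := sg hA (be F q) y' 0 with ht
  have hgq : g • be F q = be F q := hgf _ fun d hd => by rw [B_be, (mem_wSub.1 hd q (by omega)).2]
  have htq : t • be F q = be F q := sg_fix hA (hA _) (by rw [B_be, hyq.2]) _
  have hsimg : t * g ∈ (L.gen ((p : ℕ) + 1)).map π := by
    rw [h1.2]
    refine mem_fixing_below.2 fun l hl => ?_
    have e : l ≠ q := fun e => by rw [e] at hl; omega
    have hyl := mem_wSub.1 hy' l (by omega)
    constructor
    · rw [mul_smul, hgf _ (fun d hd => by rw [B_be, (mem_wSub.1 hd l (by omega)).2])]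
      exact sg_fix hA (by simp [B_be, be_inl, be_inr]) (by rw [B_be, hyl.2]) _
    · rw [mul_smul, hgf _ (fun d hd => by rw [B_bf, (mem_wSub.1 hd l (by omega)).1, neg_zero])]
      exact sg_fix hA (by simp [B_bf, be_inl, be_inr, e, Ne.symm e]) (by rw [B_bf, hyl.1, neg_zero]) _
  obtain ⟨s, hs, hs'⟩ := hsimg
  have hsq : π s • be F q = be F q := by rw [hs', mul_smul, hgq, htq]
  have hty : t • y = b := by
    have h0 : sympBilin n F (be F q) y = 0 := by rw [B_be', (mem_wSub.1 hyW q (by omega)).2, neg_zero]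
    rw [ht, sg_smul hA hqy, hB, h0, hy]
    simp
  have hsr : π s • be F r = b := by rw [hs', mul_smul, hg, hty]
  obtain ⟨c1, hc1, c2, hc2, f1, f2, f3⟩ := hI p q r hq hr
  rw [hq] at hc1 hc2
  have conj : ∀ {c k : K}, c ∈ L.gen ((p : ℕ) + 1) → k ∈ L.gen ((p : ℕ) + 1) →
      π k • be F q = π s • (π c • be F q) → k * m * k⁻¹ = s * (c * m * c⁻¹) * s⁻¹ := by
    intro c k hc hk h
    have hco := L.stab_commute hq h1 h2 (mul_mem (inv_mem (mul_mem hs hc)) hk)
      (by rw [map_mul, mul_smul, h, map_inv, map_mul, inv_smul_eq_iff, mul_smul]) hm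
    calc k * m * k⁻¹ = s * c * ((s * c)⁻¹ * k * m) * k⁻¹ := by group
      _ = s * c * (m * ((s * c)⁻¹ * k)) * k⁻¹ := by rw [hco.eq]
      _ = s * (c * m * c⁻¹) * s⁻¹ := by group
  have hms : s * m * s⁻¹ = m := by
    rw [(L.stab_commute hq h1 h2 hs hsq hm).eq, mul_inv_cancel_right]
  rw [conj hc1 hk1 (by rw [e1, f1, hsr]), conj hc2 hk2 (by
    rw [e2, f2, show π s • (be F q + be F r) = π s • be F q + π s • be F r by simp [smul_eq_apply], hsq, hsr])]
  calc m * (s * (c1 * m * c1⁻¹) * s⁻¹) = s * m * s⁻¹ * (s * (c1 * m * c1⁻¹) * s⁻¹) := by rw [hms]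
    _ = s * (m * (c1 * m * c1⁻¹)) * s⁻¹ := by group
    _ = _ := by rw [f3 m hm hpm]

theorem good_step (hF : (∃ a : F, a ≠ 0 ∧ a ≠ 1) ∨ L.Iso) {r : ℕ} (hr : r + 1 < n) (h1 : L.Good (r + 1))
    (h2 : L.Good (r + 2)) : L.Good r := by
  set p : Fin n := ⟨r, by omega⟩
  set q : Fin n := ⟨r + 1, hr⟩
  have hq : (q : ℕ) = (p : ℕ) + 1 := rfl
  have hpq : p ≠ q := fun h => by have := congrArg Fin.val h; simp [p, q] at this
  let W : Submodule F (Fin n ⊕ Fin n → F) := wSub F n r
  let W' : Submodule F (Fin n ⊕ Fin n → F) :=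
    { carrier := {v | v ∈ W ∧ sympBilin n F (be F p) v = 0 ∧ sympBilin n F (bf F p) v = 0}
      zero_mem' := ⟨W.zero_mem, by simp, by simp⟩
      add_mem' := fun ha hb => ⟨W.add_mem ha.1 hb.1, by simp [ha.2.1, hb.2.1], by simp [ha.2.2, hb.2.2]⟩
      smul_mem' := fun a v hv => ⟨W.smul_mem a hv.1, by simp [hv.2.1], by simp [hv.2.2]⟩ }
  have mem_W' : ∀ {v}, v ∈ W' → ∀ k : Fin n, (k : ℕ) ≤ r → v (Sum.inl k) = 0 ∧ v (Sum.inr k) = 0 := by
    intro v hv k hk
    rcases Nat.lt_or_eq_of_le hk with h | h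
    · exact mem_wSub.1 hv.1 k h
    · obtain rfl : k = p := Fin.ext h
      have a := hv.2.1; have b := hv.2.2
      rw [B_be', neg_eq_zero] at a
      rw [B_bf'] at b
      exact ⟨b, a⟩
  have beW' : ∀ k : Fin n, r < (k : ℕ) → be F k ∈ W' ∧ bf F k ∈ W' := fun k hk => by
    have e : k ≠ p := fun e => by rw [e] at hk; exact lt_irrefl _ hk
    exact ⟨⟨be_mem_wSub hk.le, by simp [B_be, be_inl, be_inr], by simp [B_be, bf_inl, bf_inr, e, Ne.symm e]⟩,
      ⟨bf_mem_wSub hk.le, by simp [B_bf, be_inl, be_inr, e, Ne.symm e], by simp [B_bf, bf_inl, bf_inr]⟩⟩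
  have imA : (L.S p).map π = fixing _ (below F n r ∪ (W' : Set _)) := by
    rw [L.imS p]
    refine le_antisymm ?_ fun g hg => mem_sImg.2 fun k hk => ?_
    · rintro g hg c (hc | hc)
      · exact sImg_le (r := r) le_rfl hg c hc
      · refine fix_of_support (fun k hk => ?_) (fun k hk => ?_)
        · exact (mem_sImg.1 hg k fun e => hk (mem_W' hc k (e ▸ le_rfl)).1).1
        · exact (mem_sImg.1 hg k fun e => hk (mem_W' hc k (e ▸ le_rfl)).2).2
    · have hne : (k : ℕ) ≠ r := fun e => hk (Fin.ext e)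
      by_cases hlt : (k : ℕ) < r
      · exact ⟨hg _ (Or.inl ⟨k, hlt, Or.inl rfl⟩), hg _ (Or.inl ⟨k, hlt, Or.inr rfl⟩)⟩
      · exact ⟨hg _ (Or.inr (beW' k (by omega)).1), hg _ (Or.inr (beW' k (by omega)).2)⟩
  have imK : (L.gen (r + 1)).map π = fixing _ (below F n r ∪ {be F p, bf F p}) := by
    rw [h1.2]
    refine le_antisymm ?_ fun g hg => mem_fixing_below.2 fun k hk => ?_
    · rintro g hg c (⟨k, hk, hc⟩ | rfl | rfl)
      exacts [hg c ⟨k, by omega, hc⟩, (mem_fixing_below.1 hg p (by simp [p])).1,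
        (mem_fixing_below.1 hg p (by simp [p])).2]
    · rcases Nat.lt_or_eq_of_le (Nat.le_of_lt_succ hk) with h | h
      · exact ⟨hg _ (Or.inl ⟨k, h, Or.inl rfl⟩), hg _ (Or.inl ⟨k, h, Or.inr rfl⟩)⟩
      · obtain rfl : k = p := Fin.ext h
        exact ⟨hg _ (Or.inr (Or.inl rfl)), hg _ (Or.inr (Or.inr rfl))⟩
  let D : Data (sympBilin n F) π :=
    { hA := alt
      e := be F p
      f := bf F p
      e' := be F q
      f' := bf F q
      C := below F n r
      W := W
      W' := W'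
      A := L.S p
      M := L.M p
      K' := L.gen (r + 1)
      S := L.S q
      hW := fun v => Iff.rfl
      hW' := fun v => Iff.rfl
      he := be_mem_wSub le_rfl
      hf := bf_mem_wSub le_rfl
      hfe := by simp [B_be, bf_inl, bf_inr]
      he' := (beW' q (by simp [q])).1
      hf' := (beW' q (by simp [q])).2
      hfe' := by simp [B_be, bf_inl, bf_inr]
      nd := wSub_nd
      span := wSub_span
      injAM := sup_comm (L.M p) (L.S p) ▸ L.injMS p p hr
      injK := h1.1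
      injMS := L.injMS p q hr
      comm := fun a ha k hk => L.commute_S_gen ha hk
      imA := imA
      imK := imK
      S_le := L.S_le_gen (by simp [q])
      imS := by
        intro g hg
        rw [L.imS q]
        refine mem_sImg.2 fun k hk => ?_
        have hne : (k : ℕ) ≠ r + 1 := fun e => hk (Fin.ext e)
        by_cases hlt : (k : ℕ) < r
        · exact ⟨hg _ (Or.inl (Or.inl ⟨k, hlt, Or.inl rfl⟩)), hg _ (Or.inl (Or.inl ⟨k, hlt, Or.inr rfl⟩))⟩
        by_cases heq : (k : ℕ) = r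
        · obtain rfl : k = p := Fin.ext heq
          exact ⟨hg _ (Or.inl (Or.inr (Or.inl rfl))), hg _ (Or.inl (Or.inr (Or.inr rfl)))⟩
        have hw := beW' k (by omega)
        exact ⟨hg _ (Or.inr ⟨hw.1, by simp [B_be, be_inl, be_inr], by simp [B_be, bf_inl, bf_inr, hk, Ne.symm hk]⟩),
          hg _ (Or.inr ⟨hw.2, by simp [B_bf, be_inl, be_inr, hk, Ne.symm hk], by simp [B_bf, bf_inl, bf_inr]⟩)⟩
      M_sub := fun m hm => mImg_le_product hq (L.pi_M hr hm)
      M_sup := fun c t d => by rw [L.imM p hr]; exact product_mem_mImg hq c t d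
      stab := fun k hk hfix m hm => L.stab_commute hq h1 h2 hk hfix hm
      scal := hF.imp id fun hI b hb heb hind k1 hk1 k2 hk2 e1 e2 m hm hpm =>
        L.iso_step hq h1 h2 hI (mem_wSub.2 fun l hl => mem_W' hb l (by
          have : (p : ℕ) = r := rfl
          omega)) heb hind hk1 hk2 e1 e2 hm hpm }
  have htot : L.gen r = D.tot := by
    show _ = L.S p ⊔ L.M p ⊔ L.gen (r + 1)
    refine le_antisymm (L.gen_le (fun j hj => ?_) (fun i hi hi' => ?_))
      (sup_le (sup_le (L.S_le_gen le_rfl) (L.M_le_gen le_rfl hr))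
        (L.gen_le (fun j hj => L.S_le_gen (by omega)) (fun i hi hi' => L.M_le_gen (by omega) hi')))
    · by_cases e : (j : ℕ) = r
      · rw [show j = p from Fin.ext e]; exact le_sup_left.trans le_sup_left
      · exact (L.S_le_gen (by omega)).trans le_sup_right
    · by_cases e : (i : ℕ) = r
      · rw [show i = p from Fin.ext e]; exact le_sup_right.trans le_sup_left
      · exact (L.M_le_gen (by omega) hi').trans le_sup_right
  rw [Good, htot]
  exact ⟨D.injOn_tot, D.map_tot⟩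

theorem good_all (hF : (∃ a : F, a ≠ 0 ∧ a ≠ 1) ∨ L.Iso) (r : ℕ) : L.Good r := by
  suffices ∀ d r, n ≤ r + d → L.Good r from this n r (by omega)
  intro d
  induction d with
  | zero => exact fun r h => L.good_end (by omega)
  | succ d ih =>
    intro r h
    by_cases h1 : n ≤ r + d
    · exact ih r h1
    rcases Nat.lt_trichotomy (r + 1) n with h2 | h2 | h2
    · exact L.good_step hF h2 (ih _ (by omega)) (ih _ (by omega))
    · exact L.good_last h2
    · exact L.good_end (by omega)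

theorem injOn_gen_or (hF : (∃ a : F, a ≠ 0 ∧ a ≠ 1) ∨ L.Iso) :
    Set.InjOn π (L.gen 0) ∧ (L.gen 0).map π = ⊤ := by
  refine ⟨(L.good_all hF 0).1, (L.good_all hF 0).2.trans (eq_top_iff.2 fun g _ => ?_)⟩
  exact mem_fixing_below.2 fun k hk => absurd hk (Nat.not_lt_zero _)

theorem injOn_gen (hF : ∃ a : F, a ≠ 0 ∧ a ≠ 1) :
    Set.InjOn π (L.gen 0) ∧ (L.gen 0).map π = ⊤ := L.injOn_gen_or (Or.inl hF)

end Lifts

end Cfsg.Agent.SympAmalgam
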