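/-
Area SympAmalgam: the maps `x ↦ x + B(y,x) u + B(u,x) y + t B(u,x) u` of an alternating space, and transitivity of
the isometries which fix the orthogonal of a subspace.
-/
import Cfsg.Agent.Lib.ClassicalSimple.Symp

set_option autoImplicit false

namespace Cfsg.Agent.SympAmalgam

open Cfsg.Agent.ClassicalSimple

variable {F : Type*} [Field F] {V : Type*} [AddCommGroup V] [Module F V] {B : LinearMap.BilinForm F V}

theorem swap_eq (hA : B.IsAlt) (x y : V) : B y x = -B x y := (LinearMap.IsAlt.neg hA x y).symm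

/-- The linear map underlying `sg`. -/
def sgFun (B : LinearMap.BilinForm F V) (u y : V) (t : F) : V →ₗ[F] V :=
  LinearMap.id + (B y).smulRight u + (B u).smulRight y + (t • B u).smulRight u

theorem sgFun_apply (u y : V) (t : F) (x : V) :
    sgFun B u y t x = x + B y x • u + B u x • y + (t * B u x) • u := by
  simp [sgFun]

theorem sgFun_comp (hA : B.IsAlt) {u y y' : V} (h : B u y = 0) (h' : B u y' = 0) (t t' : F) (x : V) :
    sgFun B u y t (sgFun B u y' t' x) = sgFun B u (y + y') (t + t' + B y y') x := by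
  have hyu : B y u = 0 := by rw [swap_eq hA, h, neg_zero]
  simp only [sgFun_apply, map_add, map_smul, LinearMap.add_apply, smul_eq_mul, hA u, h', hyu, mul_zero, add_zero]
  module

theorem sgFun_zero (u : V) (x : V) : sgFun B u 0 0 x = x := by simp [sgFun_apply]

theorem sgFun_isometry (hA : B.IsAlt) {u y : V} (h : B u y = 0) (t : F) (x z : V) :
    B (sgFun B u y t x) (sgFun B u y t z) = B x z := by
  have hyu : B y u = 0 := by rw [swap_eq hA, h, neg_zero]
  simp only [sgFun_apply, map_add, map_smul, LinearMap.add_apply, LinearMap.smul_apply, smul_eq_mul, hA u, hA y, h,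
    hyu, swap_eq hA u x, swap_eq hA y x]
  ring

/-- The Siegel element of the pair `u`, `y` and the scalar `t`; it is `1` unless `u` and `y` are orthogonal. -/
noncomputable def sg (hA : B.IsAlt) (u y : V) (t : F) : SpB B :=
  open Classical in
  if h : B u y = 0 then
    ⟨LinearEquiv.ofLinearMap (sgFun B u y t) (sgFun B u (-y) (-t))
      (LinearMap.ext fun x => by
        show sgFun B u y t (sgFun B u (-y) (-t) x) = x
        rw [sgFun_comp hA h (by simp [h])]
        simp [sgFun_apply, hA y])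
      (LinearMap.ext fun x => by
        show sgFun B u (-y) (-t) (sgFun B u y t x) = x
        rw [sgFun_comp hA (by simp [h]) h]
        simp [sgFun_apply, hA y]), fun x z => sgFun_isometry hA h t x z⟩
  else 1

variable (hA : B.IsAlt)

theorem sg_smul {u y : V} (h : B u y = 0) (t : F) (x : V) :
    sg hA u y t • x = x + B y x • u + B u x • y + (t * B u x) • u := by
  rw [sg, dif_pos h, smul_eq_apply]
  exact sgFun_apply u y t x

theorem sg_fix {u y c : V} (hu : B u c = 0) (hy : B y c = 0) (t : F) : sg hA u y t • c = c := by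
  by_cases h : B u y = 0
  · simp [sg_smul hA h, hu, hy]
  · rw [sg, dif_neg h, one_smul]

theorem sg_zero (u : V) : sg hA u 0 0 = 1 :=
  SpB.ext' fun x => by simp [sg_smul hA (by simp : B u 0 = 0)]

theorem sg_zero_left (y : V) : sg hA 0 y 0 = 1 :=
  SpB.ext' fun x => by simp [sg_smul hA (by simp : B 0 y = 0)]

theorem sg_add {u y y' : V} (h : B u y = 0) (h' : B u y' = 0) (t t' : F) :
    sg hA u y t * sg hA u y' t' = sg hA u (y + y') (t + t' + B y y') := SpB.ext' fun x => by
  rw [mul_smul, smul_eq_apply, smul_eq_apply, smul_eq_apply, sg, dif_pos h, sg, dif_pos h', sg,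
    dif_pos (by simp [h, h'] : B u (y + y') = 0)]
  exact sgFun_comp hA h h' t t' x

theorem sg_add_left {u u' y : V} (h : B u y = 0) (h' : B u' y = 0) :
    sg hA u y 0 * sg hA u' y 0 = sg hA (u + u') y 0 * sg hA y 0 (B u u') := SpB.ext' fun x => by
  have h2 : B (u + u') y = 0 := by simp [h, h']
  have hyu' : B y u' = 0 := by rw [swap_eq hA, h', neg_zero]
  simp only [mul_smul, sg_smul hA h, sg_smul hA h', sg_smul hA h2, sg_smul hA (by simp : B y 0 = 0)]
  simp only [map_add, map_smul, LinearMap.add_apply, smul_eq_mul, hA y, h, h', hyu', zero_mul, zero_smul, mul_zero,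
    add_zero, map_zero, LinearMap.zero_apply, smul_zero]
  module

theorem sg_conj (g : SpB B) {u y : V} (h : B u y = 0) (t : F) :
    g * sg hA u y t * g⁻¹ = sg hA (g • u) (g • y) t := SpB.ext' fun x => by
  have e : ∀ v, B (g • v) x = B v (g⁻¹ • x) := fun v => by
    rw [← form_smul g v (g⁻¹ • x), smul_inv_smul]
  rw [mul_smul, mul_smul, sg_smul hA h, sg_smul hA (by rw [form_smul]; exact h), e, e]
  simp [smul_eq_apply, map_add, map_smul]

theorem sg_scale {u y : V} (h : B u y = 0) (c : F) : sg hA (c • u) y 0 = sg hA u (c • y) 0 := SpB.ext' fun x => by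
  rw [sg_smul hA (by simp [h]), sg_smul hA (by simp [h])]
  simp [smul_smul, mul_comm c]

theorem sg_commute {u y y' : V} (h : B u y = 0) (h' : B u y' = 0) (hy : B y y' = 0) (t t' : F) :
    Commute (sg hA u y t) (sg hA u y' t') := by
  show _ * _ = _ * _
  rw [sg_add hA h h', sg_add hA h' h, add_comm y y', swap_eq hA y y', hy]
  congr 1
  ring

include hA in
/-- Transvections of a subspace move any non-zero vector of it to any other one, the subspace being non-degenerate. -/
theorem exists_move (D : Submodule F V) (hD : ∀ v ∈ D, v ≠ 0 → ∃ x ∈ D, B v x ≠ 0) {v w : V} (hv : v ∈ D)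
    (hv0 : v ≠ 0) (hw : w ∈ D) (hw0 : w ≠ 0) :
    ∃ g : SpB B, g • v = w ∧ ∀ c, (∀ d ∈ D, B d c = 0) → g • c = c := by
  have step : ∀ a ∈ D, ∀ b ∈ D, B a b ≠ 0 → ∃ g : SpB B, g • a = b ∧ ∀ c, (∀ d ∈ D, B d c = 0) → g • c = c := by
    intro a ha b hb hab
    have hyz : B (b - a) 0 = 0 := by simp
    refine ⟨sg hA (b - a) 0 (B b a)⁻¹, ?_, fun c hc => sg_fix hA (hc _ (D.sub_mem hb ha)) (by simp) _⟩
    have hba : B b a ≠ 0 := by rw [swap_eq hA a b]; simpa using hab
    rw [sg_smul hA hyz]
    simp [hA a, inv_mul_cancel₀ hba]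
  by_cases h : B v w ≠ 0
  · exact step v hv w hw h
  obtain ⟨x, hx, hvx⟩ := hD v hv hv0
  obtain ⟨x', hx', hwx'⟩ := hD w hw hw0
  obtain ⟨z, hz, hvz, hzw⟩ : ∃ z ∈ D, B v z ≠ 0 ∧ B z w ≠ 0 := by
    by_cases h1 : B x w = 0
    · by_cases h2 : B v x' = 0
      · refine ⟨x + x', D.add_mem hx hx', by simp [h2, hvx], ?_⟩
        rw [map_add, LinearMap.add_apply, h1, zero_add, swap_eq hA w x']
        simpa using hwx'
      · exact ⟨x', hx', h2, by rw [swap_eq hA w x']; simpa using hwx'⟩
    · exact ⟨x, hx, hvx, h1⟩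
  obtain ⟨g1, h1, h1'⟩ := step v hv z hz hvz
  obtain ⟨g2, h2, h2'⟩ := step z hz w hw hzw
  exact ⟨g2 * g1, by rw [mul_smul, h1, h2], fun c hc => by rw [mul_smul, h1' c hc, h2' c hc]⟩

end Cfsg.Agent.SympAmalgam
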